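import Cfsg.Agent.H91.Th.DC.Cert

/-! What is known between the parts (generated data). -/

set_option autoImplicit false
set_option maxRecDepth 100000
set_option linter.all false

namespace H91.Th.Data

open H91.Th.DC

def known0 : Known := ⟨[(0, 0), (0, 1), (0, 2), (0, 3), (0, 4), (0, 5), (0, 6), (0, 7), (0, 8)], 10⟩

def mid0_1 : Known := ⟨[(1, 23), (0, 0), (0, 1), (0, 2), (0, 3), (0, 4), (0, 5), (0, 6), (0, 7), (0, 8)], 34⟩

def mid0_2 : Known := ⟨[(2, 32), (2, 31), (2, 30), (1, 29), (2, 28), (2, 27), (1, 26), (1, 25), (2, 24), (1, 23), (0, 0), (0, 1), (0, 2), (0, 3), (0, 4), (0, 5), (0, 6), (0, 7), (0, 8)], 50⟩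

def mid0_3 : Known := ⟨[(3, 37), (3, 36), (4, 35), (3, 34), (4, 33), (2, 32), (2, 31), (2, 30), (1, 29), (2, 28), (2, 27), (1, 26), (1, 25), (2, 24), (1, 23), (0, 0), (0, 1), (0, 2), (0, 3), (0, 4), (0, 5), (0, 6), (0, 7), (0, 8)], 70⟩

def mid0_4 : Known := ⟨[(4, 43), (6, 42), (3, 41), (8, 40), (8, 39), (8, 38), (3, 37), (3, 36), (4, 35), (3, 34), (4, 33), (2, 32), (2, 31), (2, 30), (1, 29), (2, 28), (2, 27), (1, 26), (1, 25), (2, 24), (1, 23), (0, 0), (0, 1), (0, 2), (0, 3), (0, 4), (0, 5), (0, 6), (0, 7), (0, 8)], 89⟩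

def mid0_5 : Known := ⟨[(7, 48), (8, 47), (5, 46), (5, 45), (6, 44), (4, 43), (6, 42), (3, 41), (8, 40), (8, 39), (8, 38), (3, 37), (3, 36), (4, 35), (3, 34), (4, 33), (2, 32), (2, 31), (2, 30), (1, 29), (2, 28), (2, 27), (1, 26), (1, 25), (2, 24), (1, 23), (0, 0), (0, 1), (0, 2), (0, 3), (0, 4), (0, 5), (0, 6), (0, 7), (0, 8)], 109⟩

def mid0_6 : Known := ⟨[(5, 51), (7, 50), (7, 49), (7, 48), (8, 47), (5, 46), (5, 45), (6, 44), (4, 43), (6, 42), (3, 41), (8, 40), (8, 39), (8, 38), (3, 37), (3, 36), (4, 35), (3, 34), (4, 33), (2, 32), (2, 31), (2, 30), (1, 29), (2, 28), (2, 27), (1, 26), (1, 25), (2, 24), (1, 23), (0, 0), (0, 1), (0, 2), (0, 3), (0, 4), (0, 5), (0, 6), (0, 7), (0, 8)], 131⟩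

def mid0_7 : Known := ⟨[(5, 51), (7, 50), (7, 49), (7, 48), (8, 47), (5, 46), (5, 45), (6, 44), (4, 43), (6, 42), (3, 41), (8, 40), (8, 39), (8, 38), (3, 37), (3, 36), (4, 35), (3, 34), (4, 33), (2, 32), (2, 31), (2, 30), (1, 29), (2, 28), (2, 27), (1, 26), (1, 25), (2, 24), (1, 23), (0, 0), (0, 1), (0, 2), (0, 3), (0, 4), (0, 5), (0, 6), (0, 7), (0, 8)], 156⟩

def mid0_8 : Known := ⟨[(3, 53), (10, 52), (5, 51), (7, 50), (7, 49), (7, 48), (8, 47), (5, 46), (5, 45), (6, 44), (4, 43), (6, 42), (3, 41), (8, 40), (8, 39), (8, 38), (3, 37), (3, 36), (4, 35), (3, 34), (4, 33), (2, 32), (2, 31), (2, 30), (1, 29), (2, 28), (2, 27), (1, 26), (1, 25), (2, 24), (1, 23), (0, 0), (0, 1), (0, 2), (0, 3), (0, 4), (0, 5), (0, 6), (0, 7), (0, 8)], 179⟩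

def mid0_9 : Known := ⟨[(3, 53), (10, 52), (5, 51), (7, 50), (7, 49), (7, 48), (8, 47), (5, 46), (5, 45), (6, 44), (4, 43), (6, 42), (3, 41), (8, 40), (8, 39), (8, 38), (3, 37), (3, 36), (4, 35), (3, 34), (4, 33), (2, 32), (2, 31), (2, 30), (1, 29), (2, 28), (2, 27), (1, 26), (1, 25), (2, 24), (1, 23), (0, 0), (0, 1), (0, 2), (0, 3), (0, 4), (0, 5), (0, 6), (0, 7), (0, 8)], 204⟩

def mid0_10 : Known := ⟨[(3, 53), (10, 52), (5, 51), (7, 50), (7, 49), (7, 48), (8, 47), (5, 46), (5, 45), (6, 44), (4, 43), (6, 42), (3, 41), (8, 40), (8, 39), (8, 38), (3, 37), (3, 36), (4, 35), (3, 34), (4, 33), (2, 32), (2, 31), (2, 30), (1, 29), (2, 28), (2, 27), (1, 26), (1, 25), (2, 24), (1, 23), (0, 0), (0, 1), (0, 2), (0, 3), (0, 4), (0, 5), (0, 6), (0, 7), (0, 8)], 229⟩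

def mid0_11 : Known := ⟨[(3, 53), (10, 52), (5, 51), (7, 50), (7, 49), (7, 48), (8, 47), (5, 46), (5, 45), (6, 44), (4, 43), (6, 42), (3, 41), (8, 40), (8, 39), (8, 38), (3, 37), (3, 36), (4, 35), (3, 34), (4, 33), (2, 32), (2, 31), (2, 30), (1, 29), (2, 28), (2, 27), (1, 26), (1, 25), (2, 24), (1, 23), (0, 0), (0, 1), (0, 2), (0, 3), (0, 4), (0, 5), (0, 6), (0, 7), (0, 8)], 254⟩

def mid0_12 : Known := ⟨[(3, 53), (10, 52), (5, 51), (7, 50), (7, 49), (7, 48), (8, 47), (5, 46), (5, 45), (6, 44), (4, 43), (6, 42), (3, 41), (8, 40), (8, 39), (8, 38), (3, 37), (3, 36), (4, 35), (3, 34), (4, 33), (2, 32), (2, 31), (2, 30), (1, 29), (2, 28), (2, 27), (1, 26), (1, 25), (2, 24), (1, 23), (0, 0), (0, 1), (0, 2), (0, 3), (0, 4), (0, 5), (0, 6), (0, 7), (0, 8)], 279⟩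

def mid0_13 : Known := ⟨[(3, 53), (10, 52), (5, 51), (7, 50), (7, 49), (7, 48), (8, 47), (5, 46), (5, 45), (6, 44), (4, 43), (6, 42), (3, 41), (8, 40), (8, 39), (8, 38), (3, 37), (3, 36), (4, 35), (3, 34), (4, 33), (2, 32), (2, 31), (2, 30), (1, 29), (2, 28), (2, 27), (1, 26), (1, 25), (2, 24), (1, 23), (0, 0), (0, 1), (0, 2), (0, 3), (0, 4), (0, 5), (0, 6), (0, 7), (0, 8)], 304⟩

def mid0_14 : Known := ⟨[(3, 53), (10, 52), (5, 51), (7, 50), (7, 49), (7, 48), (8, 47), (5, 46), (5, 45), (6, 44), (4, 43), (6, 42), (3, 41), (8, 40), (8, 39), (8, 38), (3, 37), (3, 36), (4, 35), (3, 34), (4, 33), (2, 32), (2, 31), (2, 30), (1, 29), (2, 28), (2, 27), (1, 26), (1, 25), (2, 24), (1, 23), (0, 0), (0, 1), (0, 2), (0, 3), (0, 4), (0, 5), (0, 6), (0, 7), (0, 8)], 329⟩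

def known1 : Known := ⟨[(3, 53), (10, 52), (5, 51), (7, 50), (7, 49), (7, 48), (8, 47), (5, 46), (5, 45), (6, 44), (4, 43), (6, 42), (3, 41), (8, 40), (8, 39), (8, 38), (3, 37), (3, 36), (4, 35), (3, 34), (4, 33), (2, 32), (2, 31), (2, 30), (1, 29), (2, 28), (2, 27), (1, 26), (1, 25), (2, 24), (1, 23), (0, 0), (0, 1), (0, 2), (0, 3), (0, 4), (0, 5), (0, 6), (0, 7), (0, 8)], 333⟩

def mid1_1 : Known := ⟨[(3, 53), (10, 52), (5, 51), (7, 50), (7, 49), (7, 48), (8, 47), (5, 46), (5, 45), (6, 44), (4, 43), (6, 42), (3, 41), (8, 40), (8, 39), (8, 38), (3, 37), (3, 36), (4, 35), (3, 34), (4, 33), (2, 32), (2, 31), (2, 30), (1, 29), (2, 28), (2, 27), (1, 26), (1, 25), (2, 24), (1, 23), (0, 0), (0, 1), (0, 2), (0, 3), (0, 4), (0, 5), (0, 6), (0, 7), (0, 8)], 358⟩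

def mid1_2 : Known := ⟨[(3, 53), (10, 52), (5, 51), (7, 50), (7, 49), (7, 48), (8, 47), (5, 46), (5, 45), (6, 44), (4, 43), (6, 42), (3, 41), (8, 40), (8, 39), (8, 38), (3, 37), (3, 36), (4, 35), (3, 34), (4, 33), (2, 32), (2, 31), (2, 30), (1, 29), (2, 28), (2, 27), (1, 26), (1, 25), (2, 24), (1, 23), (0, 0), (0, 1), (0, 2), (0, 3), (0, 4), (0, 5), (0, 6), (0, 7), (0, 8)], 383⟩

def mid1_3 : Known := ⟨[(3, 53), (10, 52), (5, 51), (7, 50), (7, 49), (7, 48), (8, 47), (5, 46), (5, 45), (6, 44), (4, 43), (6, 42), (3, 41), (8, 40), (8, 39), (8, 38), (3, 37), (3, 36), (4, 35), (3, 34), (4, 33), (2, 32), (2, 31), (2, 30), (1, 29), (2, 28), (2, 27), (1, 26), (1, 25), (2, 24), (1, 23), (0, 0), (0, 1), (0, 2), (0, 3), (0, 4), (0, 5), (0, 6), (0, 7), (0, 8)], 408⟩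

def mid1_4 : Known := ⟨[(3, 53), (10, 52), (5, 51), (7, 50), (7, 49), (7, 48), (8, 47), (5, 46), (5, 45), (6, 44), (4, 43), (6, 42), (3, 41), (8, 40), (8, 39), (8, 38), (3, 37), (3, 36), (4, 35), (3, 34), (4, 33), (2, 32), (2, 31), (2, 30), (1, 29), (2, 28), (2, 27), (1, 26), (1, 25), (2, 24), (1, 23), (0, 0), (0, 1), (0, 2), (0, 3), (0, 4), (0, 5), (0, 6), (0, 7), (0, 8)], 433⟩

def mid1_5 : Known := ⟨[(3, 53), (10, 52), (5, 51), (7, 50), (7, 49), (7, 48), (8, 47), (5, 46), (5, 45), (6, 44), (4, 43), (6, 42), (3, 41), (8, 40), (8, 39), (8, 38), (3, 37), (3, 36), (4, 35), (3, 34), (4, 33), (2, 32), (2, 31), (2, 30), (1, 29), (2, 28), (2, 27), (1, 26), (1, 25), (2, 24), (1, 23), (0, 0), (0, 1), (0, 2), (0, 3), (0, 4), (0, 5), (0, 6), (0, 7), (0, 8)], 458⟩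

def mid1_6 : Known := ⟨[(3, 53), (10, 52), (5, 51), (7, 50), (7, 49), (7, 48), (8, 47), (5, 46), (5, 45), (6, 44), (4, 43), (6, 42), (3, 41), (8, 40), (8, 39), (8, 38), (3, 37), (3, 36), (4, 35), (3, 34), (4, 33), (2, 32), (2, 31), (2, 30), (1, 29), (2, 28), (2, 27), (1, 26), (1, 25), (2, 24), (1, 23), (0, 0), (0, 1), (0, 2), (0, 3), (0, 4), (0, 5), (0, 6), (0, 7), (0, 8)], 483⟩

def mid1_7 : Known := ⟨[(3, 53), (10, 52), (5, 51), (7, 50), (7, 49), (7, 48), (8, 47), (5, 46), (5, 45), (6, 44), (4, 43), (6, 42), (3, 41), (8, 40), (8, 39), (8, 38), (3, 37), (3, 36), (4, 35), (3, 34), (4, 33), (2, 32), (2, 31), (2, 30), (1, 29), (2, 28), (2, 27), (1, 26), (1, 25), (2, 24), (1, 23), (0, 0), (0, 1), (0, 2), (0, 3), (0, 4), (0, 5), (0, 6), (0, 7), (0, 8)], 508⟩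

def mid1_8 : Known := ⟨[(3, 53), (10, 52), (5, 51), (7, 50), (7, 49), (7, 48), (8, 47), (5, 46), (5, 45), (6, 44), (4, 43), (6, 42), (3, 41), (8, 40), (8, 39), (8, 38), (3, 37), (3, 36), (4, 35), (3, 34), (4, 33), (2, 32), (2, 31), (2, 30), (1, 29), (2, 28), (2, 27), (1, 26), (1, 25), (2, 24), (1, 23), (0, 0), (0, 1), (0, 2), (0, 3), (0, 4), (0, 5), (0, 6), (0, 7), (0, 8)], 533⟩

def mid1_9 : Known := ⟨[(3, 53), (10, 52), (5, 51), (7, 50), (7, 49), (7, 48), (8, 47), (5, 46), (5, 45), (6, 44), (4, 43), (6, 42), (3, 41), (8, 40), (8, 39), (8, 38), (3, 37), (3, 36), (4, 35), (3, 34), (4, 33), (2, 32), (2, 31), (2, 30), (1, 29), (2, 28), (2, 27), (1, 26), (1, 25), (2, 24), (1, 23), (0, 0), (0, 1), (0, 2), (0, 3), (0, 4), (0, 5), (0, 6), (0, 7), (0, 8)], 558⟩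

def mid1_10 : Known := ⟨[(3, 53), (10, 52), (5, 51), (7, 50), (7, 49), (7, 48), (8, 47), (5, 46), (5, 45), (6, 44), (4, 43), (6, 42), (3, 41), (8, 40), (8, 39), (8, 38), (3, 37), (3, 36), (4, 35), (3, 34), (4, 33), (2, 32), (2, 31), (2, 30), (1, 29), (2, 28), (2, 27), (1, 26), (1, 25), (2, 24), (1, 23), (0, 0), (0, 1), (0, 2), (0, 3), (0, 4), (0, 5), (0, 6), (0, 7), (0, 8)], 583⟩

def mid1_11 : Known := ⟨[(3, 53), (10, 52), (5, 51), (7, 50), (7, 49), (7, 48), (8, 47), (5, 46), (5, 45), (6, 44), (4, 43), (6, 42), (3, 41), (8, 40), (8, 39), (8, 38), (3, 37), (3, 36), (4, 35), (3, 34), (4, 33), (2, 32), (2, 31), (2, 30), (1, 29), (2, 28), (2, 27), (1, 26), (1, 25), (2, 24), (1, 23), (0, 0), (0, 1), (0, 2), (0, 3), (0, 4), (0, 5), (0, 6), (0, 7), (0, 8)], 608⟩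

def mid1_12 : Known := ⟨[(3, 53), (10, 52), (5, 51), (7, 50), (7, 49), (7, 48), (8, 47), (5, 46), (5, 45), (6, 44), (4, 43), (6, 42), (3, 41), (8, 40), (8, 39), (8, 38), (3, 37), (3, 36), (4, 35), (3, 34), (4, 33), (2, 32), (2, 31), (2, 30), (1, 29), (2, 28), (2, 27), (1, 26), (1, 25), (2, 24), (1, 23), (0, 0), (0, 1), (0, 2), (0, 3), (0, 4), (0, 5), (0, 6), (0, 7), (0, 8)], 633⟩

def mid1_13 : Known := ⟨[(10, 55), (10, 54), (3, 53), (10, 52), (5, 51), (7, 50), (7, 49), (7, 48), (8, 47), (5, 46), (5, 45), (6, 44), (4, 43), (6, 42), (3, 41), (8, 40), (8, 39), (8, 38), (3, 37), (3, 36), (4, 35), (3, 34), (4, 33), (2, 32), (2, 31), (2, 30), (1, 29), (2, 28), (2, 27), (1, 26), (1, 25), (2, 24), (1, 23), (0, 0), (0, 1), (0, 2), (0, 3), (0, 4), (0, 5), (0, 6), (0, 7), (0, 8)], 656⟩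

def mid1_14 : Known := ⟨[(10, 55), (10, 54), (3, 53), (10, 52), (5, 51), (7, 50), (7, 49), (7, 48), (8, 47), (5, 46), (5, 45), (6, 44), (4, 43), (6, 42), (3, 41), (8, 40), (8, 39), (8, 38), (3, 37), (3, 36), (4, 35), (3, 34), (4, 33), (2, 32), (2, 31), (2, 30), (1, 29), (2, 28), (2, 27), (1, 26), (1, 25), (2, 24), (1, 23), (0, 0), (0, 1), (0, 2), (0, 3), (0, 4), (0, 5), (0, 6), (0, 7), (0, 8)], 681⟩

def known2 : Known := ⟨[(10, 55), (10, 54), (3, 53), (10, 52), (5, 51), (7, 50), (7, 49), (7, 48), (8, 47), (5, 46), (5, 45), (6, 44), (4, 43), (6, 42), (3, 41), (8, 40), (8, 39), (8, 38), (3, 37), (3, 36), (4, 35), (3, 34), (4, 33), (2, 32), (2, 31), (2, 30), (1, 29), (2, 28), (2, 27), (1, 26), (1, 25), (2, 24), (1, 23), (0, 0), (0, 1), (0, 2), (0, 3), (0, 4), (0, 5), (0, 6), (0, 7), (0, 8)], 685⟩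

def mid2_1 : Known := ⟨[(10, 55), (10, 54), (3, 53), (10, 52), (5, 51), (7, 50), (7, 49), (7, 48), (8, 47), (5, 46), (5, 45), (6, 44), (4, 43), (6, 42), (3, 41), (8, 40), (8, 39), (8, 38), (3, 37), (3, 36), (4, 35), (3, 34), (4, 33), (2, 32), (2, 31), (2, 30), (1, 29), (2, 28), (2, 27), (1, 26), (1, 25), (2, 24), (1, 23), (0, 0), (0, 1), (0, 2), (0, 3), (0, 4), (0, 5), (0, 6), (0, 7), (0, 8)], 710⟩

def mid2_2 : Known := ⟨[(10, 55), (10, 54), (3, 53), (10, 52), (5, 51), (7, 50), (7, 49), (7, 48), (8, 47), (5, 46), (5, 45), (6, 44), (4, 43), (6, 42), (3, 41), (8, 40), (8, 39), (8, 38), (3, 37), (3, 36), (4, 35), (3, 34), (4, 33), (2, 32), (2, 31), (2, 30), (1, 29), (2, 28), (2, 27), (1, 26), (1, 25), (2, 24), (1, 23), (0, 0), (0, 1), (0, 2), (0, 3), (0, 4), (0, 5), (0, 6), (0, 7), (0, 8)], 735⟩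

def mid2_3 : Known := ⟨[(10, 55), (10, 54), (3, 53), (10, 52), (5, 51), (7, 50), (7, 49), (7, 48), (8, 47), (5, 46), (5, 45), (6, 44), (4, 43), (6, 42), (3, 41), (8, 40), (8, 39), (8, 38), (3, 37), (3, 36), (4, 35), (3, 34), (4, 33), (2, 32), (2, 31), (2, 30), (1, 29), (2, 28), (2, 27), (1, 26), (1, 25), (2, 24), (1, 23), (0, 0), (0, 1), (0, 2), (0, 3), (0, 4), (0, 5), (0, 6), (0, 7), (0, 8)], 760⟩

def mid2_4 : Known := ⟨[(10, 55), (10, 54), (3, 53), (10, 52), (5, 51), (7, 50), (7, 49), (7, 48), (8, 47), (5, 46), (5, 45), (6, 44), (4, 43), (6, 42), (3, 41), (8, 40), (8, 39), (8, 38), (3, 37), (3, 36), (4, 35), (3, 34), (4, 33), (2, 32), (2, 31), (2, 30), (1, 29), (2, 28), (2, 27), (1, 26), (1, 25), (2, 24), (1, 23), (0, 0), (0, 1), (0, 2), (0, 3), (0, 4), (0, 5), (0, 6), (0, 7), (0, 8)], 785⟩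

def mid2_5 : Known := ⟨[(10, 55), (10, 54), (3, 53), (10, 52), (5, 51), (7, 50), (7, 49), (7, 48), (8, 47), (5, 46), (5, 45), (6, 44), (4, 43), (6, 42), (3, 41), (8, 40), (8, 39), (8, 38), (3, 37), (3, 36), (4, 35), (3, 34), (4, 33), (2, 32), (2, 31), (2, 30), (1, 29), (2, 28), (2, 27), (1, 26), (1, 25), (2, 24), (1, 23), (0, 0), (0, 1), (0, 2), (0, 3), (0, 4), (0, 5), (0, 6), (0, 7), (0, 8)], 810⟩

def mid2_6 : Known := ⟨[(10, 55), (10, 54), (3, 53), (10, 52), (5, 51), (7, 50), (7, 49), (7, 48), (8, 47), (5, 46), (5, 45), (6, 44), (4, 43), (6, 42), (3, 41), (8, 40), (8, 39), (8, 38), (3, 37), (3, 36), (4, 35), (3, 34), (4, 33), (2, 32), (2, 31), (2, 30), (1, 29), (2, 28), (2, 27), (1, 26), (1, 25), (2, 24), (1, 23), (0, 0), (0, 1), (0, 2), (0, 3), (0, 4), (0, 5), (0, 6), (0, 7), (0, 8)], 835⟩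

def mid2_7 : Known := ⟨[(10, 55), (10, 54), (3, 53), (10, 52), (5, 51), (7, 50), (7, 49), (7, 48), (8, 47), (5, 46), (5, 45), (6, 44), (4, 43), (6, 42), (3, 41), (8, 40), (8, 39), (8, 38), (3, 37), (3, 36), (4, 35), (3, 34), (4, 33), (2, 32), (2, 31), (2, 30), (1, 29), (2, 28), (2, 27), (1, 26), (1, 25), (2, 24), (1, 23), (0, 0), (0, 1), (0, 2), (0, 3), (0, 4), (0, 5), (0, 6), (0, 7), (0, 8)], 860⟩

def mid2_8 : Known := ⟨[(10, 55), (10, 54), (3, 53), (10, 52), (5, 51), (7, 50), (7, 49), (7, 48), (8, 47), (5, 46), (5, 45), (6, 44), (4, 43), (6, 42), (3, 41), (8, 40), (8, 39), (8, 38), (3, 37), (3, 36), (4, 35), (3, 34), (4, 33), (2, 32), (2, 31), (2, 30), (1, 29), (2, 28), (2, 27), (1, 26), (1, 25), (2, 24), (1, 23), (0, 0), (0, 1), (0, 2), (0, 3), (0, 4), (0, 5), (0, 6), (0, 7), (0, 8)], 885⟩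

def mid2_9 : Known := ⟨[(10, 55), (10, 54), (3, 53), (10, 52), (5, 51), (7, 50), (7, 49), (7, 48), (8, 47), (5, 46), (5, 45), (6, 44), (4, 43), (6, 42), (3, 41), (8, 40), (8, 39), (8, 38), (3, 37), (3, 36), (4, 35), (3, 34), (4, 33), (2, 32), (2, 31), (2, 30), (1, 29), (2, 28), (2, 27), (1, 26), (1, 25), (2, 24), (1, 23), (0, 0), (0, 1), (0, 2), (0, 3), (0, 4), (0, 5), (0, 6), (0, 7), (0, 8)], 910⟩

def mid2_10 : Known := ⟨[(10, 55), (10, 54), (3, 53), (10, 52), (5, 51), (7, 50), (7, 49), (7, 48), (8, 47), (5, 46), (5, 45), (6, 44), (4, 43), (6, 42), (3, 41), (8, 40), (8, 39), (8, 38), (3, 37), (3, 36), (4, 35), (3, 34), (4, 33), (2, 32), (2, 31), (2, 30), (1, 29), (2, 28), (2, 27), (1, 26), (1, 25), (2, 24), (1, 23), (0, 0), (0, 1), (0, 2), (0, 3), (0, 4), (0, 5), (0, 6), (0, 7), (0, 8)], 935⟩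

def mid2_11 : Known := ⟨[(10, 55), (10, 54), (3, 53), (10, 52), (5, 51), (7, 50), (7, 49), (7, 48), (8, 47), (5, 46), (5, 45), (6, 44), (4, 43), (6, 42), (3, 41), (8, 40), (8, 39), (8, 38), (3, 37), (3, 36), (4, 35), (3, 34), (4, 33), (2, 32), (2, 31), (2, 30), (1, 29), (2, 28), (2, 27), (1, 26), (1, 25), (2, 24), (1, 23), (0, 0), (0, 1), (0, 2), (0, 3), (0, 4), (0, 5), (0, 6), (0, 7), (0, 8)], 960⟩

def mid2_12 : Known := ⟨[(10, 55), (10, 54), (3, 53), (10, 52), (5, 51), (7, 50), (7, 49), (7, 48), (8, 47), (5, 46), (5, 45), (6, 44), (4, 43), (6, 42), (3, 41), (8, 40), (8, 39), (8, 38), (3, 37), (3, 36), (4, 35), (3, 34), (4, 33), (2, 32), (2, 31), (2, 30), (1, 29), (2, 28), (2, 27), (1, 26), (1, 25), (2, 24), (1, 23), (0, 0), (0, 1), (0, 2), (0, 3), (0, 4), (0, 5), (0, 6), (0, 7), (0, 8)], 985⟩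

def mid2_13 : Known := ⟨[(10, 55), (10, 54), (3, 53), (10, 52), (5, 51), (7, 50), (7, 49), (7, 48), (8, 47), (5, 46), (5, 45), (6, 44), (4, 43), (6, 42), (3, 41), (8, 40), (8, 39), (8, 38), (3, 37), (3, 36), (4, 35), (3, 34), (4, 33), (2, 32), (2, 31), (2, 30), (1, 29), (2, 28), (2, 27), (1, 26), (1, 25), (2, 24), (1, 23), (0, 0), (0, 1), (0, 2), (0, 3), (0, 4), (0, 5), (0, 6), (0, 7), (0, 8)], 1010⟩

def mid2_14 : Known := ⟨[(10, 55), (10, 54), (3, 53), (10, 52), (5, 51), (7, 50), (7, 49), (7, 48), (8, 47), (5, 46), (5, 45), (6, 44), (4, 43), (6, 42), (3, 41), (8, 40), (8, 39), (8, 38), (3, 37), (3, 36), (4, 35), (3, 34), (4, 33), (2, 32), (2, 31), (2, 30), (1, 29), (2, 28), (2, 27), (1, 26), (1, 25), (2, 24), (1, 23), (0, 0), (0, 1), (0, 2), (0, 3), (0, 4), (0, 5), (0, 6), (0, 7), (0, 8)], 1035⟩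

def known3 : Known := ⟨[(10, 55), (10, 54), (3, 53), (10, 52), (5, 51), (7, 50), (7, 49), (7, 48), (8, 47), (5, 46), (5, 45), (6, 44), (4, 43), (6, 42), (3, 41), (8, 40), (8, 39), (8, 38), (3, 37), (3, 36), (4, 35), (3, 34), (4, 33), (2, 32), (2, 31), (2, 30), (1, 29), (2, 28), (2, 27), (1, 26), (1, 25), (2, 24), (1, 23), (0, 0), (0, 1), (0, 2), (0, 3), (0, 4), (0, 5), (0, 6), (0, 7), (0, 8)], 1039⟩

def mid3_1 : Known := ⟨[(10, 55), (10, 54), (3, 53), (10, 52), (5, 51), (7, 50), (7, 49), (7, 48), (8, 47), (5, 46), (5, 45), (6, 44), (4, 43), (6, 42), (3, 41), (8, 40), (8, 39), (8, 38), (3, 37), (3, 36), (4, 35), (3, 34), (4, 33), (2, 32), (2, 31), (2, 30), (1, 29), (2, 28), (2, 27), (1, 26), (1, 25), (2, 24), (1, 23), (0, 0), (0, 1), (0, 2), (0, 3), (0, 4), (0, 5), (0, 6), (0, 7), (0, 8)], 1064⟩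

def mid3_2 : Known := ⟨[(10, 55), (10, 54), (3, 53), (10, 52), (5, 51), (7, 50), (7, 49), (7, 48), (8, 47), (5, 46), (5, 45), (6, 44), (4, 43), (6, 42), (3, 41), (8, 40), (8, 39), (8, 38), (3, 37), (3, 36), (4, 35), (3, 34), (4, 33), (2, 32), (2, 31), (2, 30), (1, 29), (2, 28), (2, 27), (1, 26), (1, 25), (2, 24), (1, 23), (0, 0), (0, 1), (0, 2), (0, 3), (0, 4), (0, 5), (0, 6), (0, 7), (0, 8)], 1089⟩

def mid3_3 : Known := ⟨[(10, 55), (10, 54), (3, 53), (10, 52), (5, 51), (7, 50), (7, 49), (7, 48), (8, 47), (5, 46), (5, 45), (6, 44), (4, 43), (6, 42), (3, 41), (8, 40), (8, 39), (8, 38), (3, 37), (3, 36), (4, 35), (3, 34), (4, 33), (2, 32), (2, 31), (2, 30), (1, 29), (2, 28), (2, 27), (1, 26), (1, 25), (2, 24), (1, 23), (0, 0), (0, 1), (0, 2), (0, 3), (0, 4), (0, 5), (0, 6), (0, 7), (0, 8)], 1114⟩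

def mid3_4 : Known := ⟨[(10, 55), (10, 54), (3, 53), (10, 52), (5, 51), (7, 50), (7, 49), (7, 48), (8, 47), (5, 46), (5, 45), (6, 44), (4, 43), (6, 42), (3, 41), (8, 40), (8, 39), (8, 38), (3, 37), (3, 36), (4, 35), (3, 34), (4, 33), (2, 32), (2, 31), (2, 30), (1, 29), (2, 28), (2, 27), (1, 26), (1, 25), (2, 24), (1, 23), (0, 0), (0, 1), (0, 2), (0, 3), (0, 4), (0, 5), (0, 6), (0, 7), (0, 8)], 1139⟩

def mid3_5 : Known := ⟨[(10, 55), (10, 54), (3, 53), (10, 52), (5, 51), (7, 50), (7, 49), (7, 48), (8, 47), (5, 46), (5, 45), (6, 44), (4, 43), (6, 42), (3, 41), (8, 40), (8, 39), (8, 38), (3, 37), (3, 36), (4, 35), (3, 34), (4, 33), (2, 32), (2, 31), (2, 30), (1, 29), (2, 28), (2, 27), (1, 26), (1, 25), (2, 24), (1, 23), (0, 0), (0, 1), (0, 2), (0, 3), (0, 4), (0, 5), (0, 6), (0, 7), (0, 8)], 1164⟩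

def mid3_6 : Known := ⟨[(10, 55), (10, 54), (3, 53), (10, 52), (5, 51), (7, 50), (7, 49), (7, 48), (8, 47), (5, 46), (5, 45), (6, 44), (4, 43), (6, 42), (3, 41), (8, 40), (8, 39), (8, 38), (3, 37), (3, 36), (4, 35), (3, 34), (4, 33), (2, 32), (2, 31), (2, 30), (1, 29), (2, 28), (2, 27), (1, 26), (1, 25), (2, 24), (1, 23), (0, 0), (0, 1), (0, 2), (0, 3), (0, 4), (0, 5), (0, 6), (0, 7), (0, 8)], 1189⟩

def mid3_7 : Known := ⟨[(10, 55), (10, 54), (3, 53), (10, 52), (5, 51), (7, 50), (7, 49), (7, 48), (8, 47), (5, 46), (5, 45), (6, 44), (4, 43), (6, 42), (3, 41), (8, 40), (8, 39), (8, 38), (3, 37), (3, 36), (4, 35), (3, 34), (4, 33), (2, 32), (2, 31), (2, 30), (1, 29), (2, 28), (2, 27), (1, 26), (1, 25), (2, 24), (1, 23), (0, 0), (0, 1), (0, 2), (0, 3), (0, 4), (0, 5), (0, 6), (0, 7), (0, 8)], 1214⟩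

def mid3_8 : Known := ⟨[(10, 55), (10, 54), (3, 53), (10, 52), (5, 51), (7, 50), (7, 49), (7, 48), (8, 47), (5, 46), (5, 45), (6, 44), (4, 43), (6, 42), (3, 41), (8, 40), (8, 39), (8, 38), (3, 37), (3, 36), (4, 35), (3, 34), (4, 33), (2, 32), (2, 31), (2, 30), (1, 29), (2, 28), (2, 27), (1, 26), (1, 25), (2, 24), (1, 23), (0, 0), (0, 1), (0, 2), (0, 3), (0, 4), (0, 5), (0, 6), (0, 7), (0, 8)], 1239⟩

def mid3_9 : Known := ⟨[(10, 55), (10, 54), (3, 53), (10, 52), (5, 51), (7, 50), (7, 49), (7, 48), (8, 47), (5, 46), (5, 45), (6, 44), (4, 43), (6, 42), (3, 41), (8, 40), (8, 39), (8, 38), (3, 37), (3, 36), (4, 35), (3, 34), (4, 33), (2, 32), (2, 31), (2, 30), (1, 29), (2, 28), (2, 27), (1, 26), (1, 25), (2, 24), (1, 23), (0, 0), (0, 1), (0, 2), (0, 3), (0, 4), (0, 5), (0, 6), (0, 7), (0, 8)], 1264⟩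

def mid3_10 : Known := ⟨[(10, 55), (10, 54), (3, 53), (10, 52), (5, 51), (7, 50), (7, 49), (7, 48), (8, 47), (5, 46), (5, 45), (6, 44), (4, 43), (6, 42), (3, 41), (8, 40), (8, 39), (8, 38), (3, 37), (3, 36), (4, 35), (3, 34), (4, 33), (2, 32), (2, 31), (2, 30), (1, 29), (2, 28), (2, 27), (1, 26), (1, 25), (2, 24), (1, 23), (0, 0), (0, 1), (0, 2), (0, 3), (0, 4), (0, 5), (0, 6), (0, 7), (0, 8)], 1289⟩

def mid3_11 : Known := ⟨[(10, 55), (10, 54), (3, 53), (10, 52), (5, 51), (7, 50), (7, 49), (7, 48), (8, 47), (5, 46), (5, 45), (6, 44), (4, 43), (6, 42), (3, 41), (8, 40), (8, 39), (8, 38), (3, 37), (3, 36), (4, 35), (3, 34), (4, 33), (2, 32), (2, 31), (2, 30), (1, 29), (2, 28), (2, 27), (1, 26), (1, 25), (2, 24), (1, 23), (0, 0), (0, 1), (0, 2), (0, 3), (0, 4), (0, 5), (0, 6), (0, 7), (0, 8)], 1314⟩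

def mid3_12 : Known := ⟨[(10, 55), (10, 54), (3, 53), (10, 52), (5, 51), (7, 50), (7, 49), (7, 48), (8, 47), (5, 46), (5, 45), (6, 44), (4, 43), (6, 42), (3, 41), (8, 40), (8, 39), (8, 38), (3, 37), (3, 36), (4, 35), (3, 34), (4, 33), (2, 32), (2, 31), (2, 30), (1, 29), (2, 28), (2, 27), (1, 26), (1, 25), (2, 24), (1, 23), (0, 0), (0, 1), (0, 2), (0, 3), (0, 4), (0, 5), (0, 6), (0, 7), (0, 8)], 1339⟩

def mid3_13 : Known := ⟨[(10, 55), (10, 54), (3, 53), (10, 52), (5, 51), (7, 50), (7, 49), (7, 48), (8, 47), (5, 46), (5, 45), (6, 44), (4, 43), (6, 42), (3, 41), (8, 40), (8, 39), (8, 38), (3, 37), (3, 36), (4, 35), (3, 34), (4, 33), (2, 32), (2, 31), (2, 30), (1, 29), (2, 28), (2, 27), (1, 26), (1, 25), (2, 24), (1, 23), (0, 0), (0, 1), (0, 2), (0, 3), (0, 4), (0, 5), (0, 6), (0, 7), (0, 8)], 1364⟩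

def mid3_14 : Known := ⟨[(10, 55), (10, 54), (3, 53), (10, 52), (5, 51), (7, 50), (7, 49), (7, 48), (8, 47), (5, 46), (5, 45), (6, 44), (4, 43), (6, 42), (3, 41), (8, 40), (8, 39), (8, 38), (3, 37), (3, 36), (4, 35), (3, 34), (4, 33), (2, 32), (2, 31), (2, 30), (1, 29), (2, 28), (2, 27), (1, 26), (1, 25), (2, 24), (1, 23), (0, 0), (0, 1), (0, 2), (0, 3), (0, 4), (0, 5), (0, 6), (0, 7), (0, 8)], 1389⟩

def known4 : Known := ⟨[(10, 55), (10, 54), (3, 53), (10, 52), (5, 51), (7, 50), (7, 49), (7, 48), (8, 47), (5, 46), (5, 45), (6, 44), (4, 43), (6, 42), (3, 41), (8, 40), (8, 39), (8, 38), (3, 37), (3, 36), (4, 35), (3, 34), (4, 33), (2, 32), (2, 31), (2, 30), (1, 29), (2, 28), (2, 27), (1, 26), (1, 25), (2, 24), (1, 23), (0, 0), (0, 1), (0, 2), (0, 3), (0, 4), (0, 5), (0, 6), (0, 7), (0, 8)], 1393⟩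

def mid4_1 : Known := ⟨[(10, 55), (10, 54), (3, 53), (10, 52), (5, 51), (7, 50), (7, 49), (7, 48), (8, 47), (5, 46), (5, 45), (6, 44), (4, 43), (6, 42), (3, 41), (8, 40), (8, 39), (8, 38), (3, 37), (3, 36), (4, 35), (3, 34), (4, 33), (2, 32), (2, 31), (2, 30), (1, 29), (2, 28), (2, 27), (1, 26), (1, 25), (2, 24), (1, 23), (0, 0), (0, 1), (0, 2), (0, 3), (0, 4), (0, 5), (0, 6), (0, 7), (0, 8)], 1418⟩

def mid4_2 : Known := ⟨[(10, 55), (10, 54), (3, 53), (10, 52), (5, 51), (7, 50), (7, 49), (7, 48), (8, 47), (5, 46), (5, 45), (6, 44), (4, 43), (6, 42), (3, 41), (8, 40), (8, 39), (8, 38), (3, 37), (3, 36), (4, 35), (3, 34), (4, 33), (2, 32), (2, 31), (2, 30), (1, 29), (2, 28), (2, 27), (1, 26), (1, 25), (2, 24), (1, 23), (0, 0), (0, 1), (0, 2), (0, 3), (0, 4), (0, 5), (0, 6), (0, 7), (0, 8)], 1443⟩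

def mid4_3 : Known := ⟨[(10, 55), (10, 54), (3, 53), (10, 52), (5, 51), (7, 50), (7, 49), (7, 48), (8, 47), (5, 46), (5, 45), (6, 44), (4, 43), (6, 42), (3, 41), (8, 40), (8, 39), (8, 38), (3, 37), (3, 36), (4, 35), (3, 34), (4, 33), (2, 32), (2, 31), (2, 30), (1, 29), (2, 28), (2, 27), (1, 26), (1, 25), (2, 24), (1, 23), (0, 0), (0, 1), (0, 2), (0, 3), (0, 4), (0, 5), (0, 6), (0, 7), (0, 8)], 1468⟩

def mid4_4 : Known := ⟨[(10, 55), (10, 54), (3, 53), (10, 52), (5, 51), (7, 50), (7, 49), (7, 48), (8, 47), (5, 46), (5, 45), (6, 44), (4, 43), (6, 42), (3, 41), (8, 40), (8, 39), (8, 38), (3, 37), (3, 36), (4, 35), (3, 34), (4, 33), (2, 32), (2, 31), (2, 30), (1, 29), (2, 28), (2, 27), (1, 26), (1, 25), (2, 24), (1, 23), (0, 0), (0, 1), (0, 2), (0, 3), (0, 4), (0, 5), (0, 6), (0, 7), (0, 8)], 1493⟩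

def mid4_5 : Known := ⟨[(10, 55), (10, 54), (3, 53), (10, 52), (5, 51), (7, 50), (7, 49), (7, 48), (8, 47), (5, 46), (5, 45), (6, 44), (4, 43), (6, 42), (3, 41), (8, 40), (8, 39), (8, 38), (3, 37), (3, 36), (4, 35), (3, 34), (4, 33), (2, 32), (2, 31), (2, 30), (1, 29), (2, 28), (2, 27), (1, 26), (1, 25), (2, 24), (1, 23), (0, 0), (0, 1), (0, 2), (0, 3), (0, 4), (0, 5), (0, 6), (0, 7), (0, 8)], 1518⟩

def mid4_6 : Known := ⟨[(10, 55), (10, 54), (3, 53), (10, 52), (5, 51), (7, 50), (7, 49), (7, 48), (8, 47), (5, 46), (5, 45), (6, 44), (4, 43), (6, 42), (3, 41), (8, 40), (8, 39), (8, 38), (3, 37), (3, 36), (4, 35), (3, 34), (4, 33), (2, 32), (2, 31), (2, 30), (1, 29), (2, 28), (2, 27), (1, 26), (1, 25), (2, 24), (1, 23), (0, 0), (0, 1), (0, 2), (0, 3), (0, 4), (0, 5), (0, 6), (0, 7), (0, 8)], 1543⟩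

def mid4_7 : Known := ⟨[(10, 55), (10, 54), (3, 53), (10, 52), (5, 51), (7, 50), (7, 49), (7, 48), (8, 47), (5, 46), (5, 45), (6, 44), (4, 43), (6, 42), (3, 41), (8, 40), (8, 39), (8, 38), (3, 37), (3, 36), (4, 35), (3, 34), (4, 33), (2, 32), (2, 31), (2, 30), (1, 29), (2, 28), (2, 27), (1, 26), (1, 25), (2, 24), (1, 23), (0, 0), (0, 1), (0, 2), (0, 3), (0, 4), (0, 5), (0, 6), (0, 7), (0, 8)], 1568⟩

def mid4_8 : Known := ⟨[(10, 55), (10, 54), (3, 53), (10, 52), (5, 51), (7, 50), (7, 49), (7, 48), (8, 47), (5, 46), (5, 45), (6, 44), (4, 43), (6, 42), (3, 41), (8, 40), (8, 39), (8, 38), (3, 37), (3, 36), (4, 35), (3, 34), (4, 33), (2, 32), (2, 31), (2, 30), (1, 29), (2, 28), (2, 27), (1, 26), (1, 25), (2, 24), (1, 23), (0, 0), (0, 1), (0, 2), (0, 3), (0, 4), (0, 5), (0, 6), (0, 7), (0, 8)], 1593⟩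

def mid4_9 : Known := ⟨[(10, 55), (10, 54), (3, 53), (10, 52), (5, 51), (7, 50), (7, 49), (7, 48), (8, 47), (5, 46), (5, 45), (6, 44), (4, 43), (6, 42), (3, 41), (8, 40), (8, 39), (8, 38), (3, 37), (3, 36), (4, 35), (3, 34), (4, 33), (2, 32), (2, 31), (2, 30), (1, 29), (2, 28), (2, 27), (1, 26), (1, 25), (2, 24), (1, 23), (0, 0), (0, 1), (0, 2), (0, 3), (0, 4), (0, 5), (0, 6), (0, 7), (0, 8)], 1618⟩

def mid4_10 : Known := ⟨[(10, 55), (10, 54), (3, 53), (10, 52), (5, 51), (7, 50), (7, 49), (7, 48), (8, 47), (5, 46), (5, 45), (6, 44), (4, 43), (6, 42), (3, 41), (8, 40), (8, 39), (8, 38), (3, 37), (3, 36), (4, 35), (3, 34), (4, 33), (2, 32), (2, 31), (2, 30), (1, 29), (2, 28), (2, 27), (1, 26), (1, 25), (2, 24), (1, 23), (0, 0), (0, 1), (0, 2), (0, 3), (0, 4), (0, 5), (0, 6), (0, 7), (0, 8)], 1643⟩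

def mid4_11 : Known := ⟨[(10, 55), (10, 54), (3, 53), (10, 52), (5, 51), (7, 50), (7, 49), (7, 48), (8, 47), (5, 46), (5, 45), (6, 44), (4, 43), (6, 42), (3, 41), (8, 40), (8, 39), (8, 38), (3, 37), (3, 36), (4, 35), (3, 34), (4, 33), (2, 32), (2, 31), (2, 30), (1, 29), (2, 28), (2, 27), (1, 26), (1, 25), (2, 24), (1, 23), (0, 0), (0, 1), (0, 2), (0, 3), (0, 4), (0, 5), (0, 6), (0, 7), (0, 8)], 1668⟩

def mid4_12 : Known := ⟨[(10, 55), (10, 54), (3, 53), (10, 52), (5, 51), (7, 50), (7, 49), (7, 48), (8, 47), (5, 46), (5, 45), (6, 44), (4, 43), (6, 42), (3, 41), (8, 40), (8, 39), (8, 38), (3, 37), (3, 36), (4, 35), (3, 34), (4, 33), (2, 32), (2, 31), (2, 30), (1, 29), (2, 28), (2, 27), (1, 26), (1, 25), (2, 24), (1, 23), (0, 0), (0, 1), (0, 2), (0, 3), (0, 4), (0, 5), (0, 6), (0, 7), (0, 8)], 1693⟩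

def mid4_13 : Known := ⟨[(10, 55), (10, 54), (3, 53), (10, 52), (5, 51), (7, 50), (7, 49), (7, 48), (8, 47), (5, 46), (5, 45), (6, 44), (4, 43), (6, 42), (3, 41), (8, 40), (8, 39), (8, 38), (3, 37), (3, 36), (4, 35), (3, 34), (4, 33), (2, 32), (2, 31), (2, 30), (1, 29), (2, 28), (2, 27), (1, 26), (1, 25), (2, 24), (1, 23), (0, 0), (0, 1), (0, 2), (0, 3), (0, 4), (0, 5), (0, 6), (0, 7), (0, 8)], 1718⟩

def mid4_14 : Known := ⟨[(10, 55), (10, 54), (3, 53), (10, 52), (5, 51), (7, 50), (7, 49), (7, 48), (8, 47), (5, 46), (5, 45), (6, 44), (4, 43), (6, 42), (3, 41), (8, 40), (8, 39), (8, 38), (3, 37), (3, 36), (4, 35), (3, 34), (4, 33), (2, 32), (2, 31), (2, 30), (1, 29), (2, 28), (2, 27), (1, 26), (1, 25), (2, 24), (1, 23), (0, 0), (0, 1), (0, 2), (0, 3), (0, 4), (0, 5), (0, 6), (0, 7), (0, 8)], 1743⟩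

def known5 : Known := ⟨[(10, 55), (10, 54), (3, 53), (10, 52), (5, 51), (7, 50), (7, 49), (7, 48), (8, 47), (5, 46), (5, 45), (6, 44), (4, 43), (6, 42), (3, 41), (8, 40), (8, 39), (8, 38), (3, 37), (3, 36), (4, 35), (3, 34), (4, 33), (2, 32), (2, 31), (2, 30), (1, 29), (2, 28), (2, 27), (1, 26), (1, 25), (2, 24), (1, 23), (0, 0), (0, 1), (0, 2), (0, 3), (0, 4), (0, 5), (0, 6), (0, 7), (0, 8)], 1747⟩

def mid5_1 : Known := ⟨[(10, 55), (10, 54), (3, 53), (10, 52), (5, 51), (7, 50), (7, 49), (7, 48), (8, 47), (5, 46), (5, 45), (6, 44), (4, 43), (6, 42), (3, 41), (8, 40), (8, 39), (8, 38), (3, 37), (3, 36), (4, 35), (3, 34), (4, 33), (2, 32), (2, 31), (2, 30), (1, 29), (2, 28), (2, 27), (1, 26), (1, 25), (2, 24), (1, 23), (0, 0), (0, 1), (0, 2), (0, 3), (0, 4), (0, 5), (0, 6), (0, 7), (0, 8)], 1772⟩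

def mid5_2 : Known := ⟨[(10, 55), (10, 54), (3, 53), (10, 52), (5, 51), (7, 50), (7, 49), (7, 48), (8, 47), (5, 46), (5, 45), (6, 44), (4, 43), (6, 42), (3, 41), (8, 40), (8, 39), (8, 38), (3, 37), (3, 36), (4, 35), (3, 34), (4, 33), (2, 32), (2, 31), (2, 30), (1, 29), (2, 28), (2, 27), (1, 26), (1, 25), (2, 24), (1, 23), (0, 0), (0, 1), (0, 2), (0, 3), (0, 4), (0, 5), (0, 6), (0, 7), (0, 8)], 1797⟩

def mid5_3 : Known := ⟨[(10, 55), (10, 54), (3, 53), (10, 52), (5, 51), (7, 50), (7, 49), (7, 48), (8, 47), (5, 46), (5, 45), (6, 44), (4, 43), (6, 42), (3, 41), (8, 40), (8, 39), (8, 38), (3, 37), (3, 36), (4, 35), (3, 34), (4, 33), (2, 32), (2, 31), (2, 30), (1, 29), (2, 28), (2, 27), (1, 26), (1, 25), (2, 24), (1, 23), (0, 0), (0, 1), (0, 2), (0, 3), (0, 4), (0, 5), (0, 6), (0, 7), (0, 8)], 1822⟩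

def mid5_4 : Known := ⟨[(9, 56), (10, 55), (10, 54), (3, 53), (10, 52), (5, 51), (7, 50), (7, 49), (7, 48), (8, 47), (5, 46), (5, 45), (6, 44), (4, 43), (6, 42), (3, 41), (8, 40), (8, 39), (8, 38), (3, 37), (3, 36), (4, 35), (3, 34), (4, 33), (2, 32), (2, 31), (2, 30), (1, 29), (2, 28), (2, 27), (1, 26), (1, 25), (2, 24), (1, 23), (0, 0), (0, 1), (0, 2), (0, 3), (0, 4), (0, 5), (0, 6), (0, 7), (0, 8)], 1846⟩

def mid5_5 : Known := ⟨[(9, 56), (10, 55), (10, 54), (3, 53), (10, 52), (5, 51), (7, 50), (7, 49), (7, 48), (8, 47), (5, 46), (5, 45), (6, 44), (4, 43), (6, 42), (3, 41), (8, 40), (8, 39), (8, 38), (3, 37), (3, 36), (4, 35), (3, 34), (4, 33), (2, 32), (2, 31), (2, 30), (1, 29), (2, 28), (2, 27), (1, 26), (1, 25), (2, 24), (1, 23), (0, 0), (0, 1), (0, 2), (0, 3), (0, 4), (0, 5), (0, 6), (0, 7), (0, 8)], 1871⟩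

def mid5_6 : Known := ⟨[(9, 56), (10, 55), (10, 54), (3, 53), (10, 52), (5, 51), (7, 50), (7, 49), (7, 48), (8, 47), (5, 46), (5, 45), (6, 44), (4, 43), (6, 42), (3, 41), (8, 40), (8, 39), (8, 38), (3, 37), (3, 36), (4, 35), (3, 34), (4, 33), (2, 32), (2, 31), (2, 30), (1, 29), (2, 28), (2, 27), (1, 26), (1, 25), (2, 24), (1, 23), (0, 0), (0, 1), (0, 2), (0, 3), (0, 4), (0, 5), (0, 6), (0, 7), (0, 8)], 1896⟩

def mid5_7 : Known := ⟨[(9, 56), (10, 55), (10, 54), (3, 53), (10, 52), (5, 51), (7, 50), (7, 49), (7, 48), (8, 47), (5, 46), (5, 45), (6, 44), (4, 43), (6, 42), (3, 41), (8, 40), (8, 39), (8, 38), (3, 37), (3, 36), (4, 35), (3, 34), (4, 33), (2, 32), (2, 31), (2, 30), (1, 29), (2, 28), (2, 27), (1, 26), (1, 25), (2, 24), (1, 23), (0, 0), (0, 1), (0, 2), (0, 3), (0, 4), (0, 5), (0, 6), (0, 7), (0, 8)], 1921⟩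

def mid5_8 : Known := ⟨[(9, 56), (10, 55), (10, 54), (3, 53), (10, 52), (5, 51), (7, 50), (7, 49), (7, 48), (8, 47), (5, 46), (5, 45), (6, 44), (4, 43), (6, 42), (3, 41), (8, 40), (8, 39), (8, 38), (3, 37), (3, 36), (4, 35), (3, 34), (4, 33), (2, 32), (2, 31), (2, 30), (1, 29), (2, 28), (2, 27), (1, 26), (1, 25), (2, 24), (1, 23), (0, 0), (0, 1), (0, 2), (0, 3), (0, 4), (0, 5), (0, 6), (0, 7), (0, 8)], 1946⟩

def mid5_9 : Known := ⟨[(9, 56), (10, 55), (10, 54), (3, 53), (10, 52), (5, 51), (7, 50), (7, 49), (7, 48), (8, 47), (5, 46), (5, 45), (6, 44), (4, 43), (6, 42), (3, 41), (8, 40), (8, 39), (8, 38), (3, 37), (3, 36), (4, 35), (3, 34), (4, 33), (2, 32), (2, 31), (2, 30), (1, 29), (2, 28), (2, 27), (1, 26), (1, 25), (2, 24), (1, 23), (0, 0), (0, 1), (0, 2), (0, 3), (0, 4), (0, 5), (0, 6), (0, 7), (0, 8)], 1971⟩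

def mid5_10 : Known := ⟨[(9, 56), (10, 55), (10, 54), (3, 53), (10, 52), (5, 51), (7, 50), (7, 49), (7, 48), (8, 47), (5, 46), (5, 45), (6, 44), (4, 43), (6, 42), (3, 41), (8, 40), (8, 39), (8, 38), (3, 37), (3, 36), (4, 35), (3, 34), (4, 33), (2, 32), (2, 31), (2, 30), (1, 29), (2, 28), (2, 27), (1, 26), (1, 25), (2, 24), (1, 23), (0, 0), (0, 1), (0, 2), (0, 3), (0, 4), (0, 5), (0, 6), (0, 7), (0, 8)], 1996⟩

def mid5_11 : Known := ⟨[(9, 56), (10, 55), (10, 54), (3, 53), (10, 52), (5, 51), (7, 50), (7, 49), (7, 48), (8, 47), (5, 46), (5, 45), (6, 44), (4, 43), (6, 42), (3, 41), (8, 40), (8, 39), (8, 38), (3, 37), (3, 36), (4, 35), (3, 34), (4, 33), (2, 32), (2, 31), (2, 30), (1, 29), (2, 28), (2, 27), (1, 26), (1, 25), (2, 24), (1, 23), (0, 0), (0, 1), (0, 2), (0, 3), (0, 4), (0, 5), (0, 6), (0, 7), (0, 8)], 2021⟩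

def mid5_12 : Known := ⟨[(9, 56), (10, 55), (10, 54), (3, 53), (10, 52), (5, 51), (7, 50), (7, 49), (7, 48), (8, 47), (5, 46), (5, 45), (6, 44), (4, 43), (6, 42), (3, 41), (8, 40), (8, 39), (8, 38), (3, 37), (3, 36), (4, 35), (3, 34), (4, 33), (2, 32), (2, 31), (2, 30), (1, 29), (2, 28), (2, 27), (1, 26), (1, 25), (2, 24), (1, 23), (0, 0), (0, 1), (0, 2), (0, 3), (0, 4), (0, 5), (0, 6), (0, 7), (0, 8)], 2046⟩

def mid5_13 : Known := ⟨[(9, 56), (10, 55), (10, 54), (3, 53), (10, 52), (5, 51), (7, 50), (7, 49), (7, 48), (8, 47), (5, 46), (5, 45), (6, 44), (4, 43), (6, 42), (3, 41), (8, 40), (8, 39), (8, 38), (3, 37), (3, 36), (4, 35), (3, 34), (4, 33), (2, 32), (2, 31), (2, 30), (1, 29), (2, 28), (2, 27), (1, 26), (1, 25), (2, 24), (1, 23), (0, 0), (0, 1), (0, 2), (0, 3), (0, 4), (0, 5), (0, 6), (0, 7), (0, 8)], 2071⟩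

def mid5_14 : Known := ⟨[(9, 56), (10, 55), (10, 54), (3, 53), (10, 52), (5, 51), (7, 50), (7, 49), (7, 48), (8, 47), (5, 46), (5, 45), (6, 44), (4, 43), (6, 42), (3, 41), (8, 40), (8, 39), (8, 38), (3, 37), (3, 36), (4, 35), (3, 34), (4, 33), (2, 32), (2, 31), (2, 30), (1, 29), (2, 28), (2, 27), (1, 26), (1, 25), (2, 24), (1, 23), (0, 0), (0, 1), (0, 2), (0, 3), (0, 4), (0, 5), (0, 6), (0, 7), (0, 8)], 2096⟩

def known6 : Known := ⟨[(9, 56), (10, 55), (10, 54), (3, 53), (10, 52), (5, 51), (7, 50), (7, 49), (7, 48), (8, 47), (5, 46), (5, 45), (6, 44), (4, 43), (6, 42), (3, 41), (8, 40), (8, 39), (8, 38), (3, 37), (3, 36), (4, 35), (3, 34), (4, 33), (2, 32), (2, 31), (2, 30), (1, 29), (2, 28), (2, 27), (1, 26), (1, 25), (2, 24), (1, 23), (0, 0), (0, 1), (0, 2), (0, 3), (0, 4), (0, 5), (0, 6), (0, 7), (0, 8)], 2100⟩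

def mid6_1 : Known := ⟨[(9, 56), (10, 55), (10, 54), (3, 53), (10, 52), (5, 51), (7, 50), (7, 49), (7, 48), (8, 47), (5, 46), (5, 45), (6, 44), (4, 43), (6, 42), (3, 41), (8, 40), (8, 39), (8, 38), (3, 37), (3, 36), (4, 35), (3, 34), (4, 33), (2, 32), (2, 31), (2, 30), (1, 29), (2, 28), (2, 27), (1, 26), (1, 25), (2, 24), (1, 23), (0, 0), (0, 1), (0, 2), (0, 3), (0, 4), (0, 5), (0, 6), (0, 7), (0, 8)], 2125⟩

def mid6_2 : Known := ⟨[(9, 56), (10, 55), (10, 54), (3, 53), (10, 52), (5, 51), (7, 50), (7, 49), (7, 48), (8, 47), (5, 46), (5, 45), (6, 44), (4, 43), (6, 42), (3, 41), (8, 40), (8, 39), (8, 38), (3, 37), (3, 36), (4, 35), (3, 34), (4, 33), (2, 32), (2, 31), (2, 30), (1, 29), (2, 28), (2, 27), (1, 26), (1, 25), (2, 24), (1, 23), (0, 0), (0, 1), (0, 2), (0, 3), (0, 4), (0, 5), (0, 6), (0, 7), (0, 8)], 2150⟩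

def mid6_3 : Known := ⟨[(9, 56), (10, 55), (10, 54), (3, 53), (10, 52), (5, 51), (7, 50), (7, 49), (7, 48), (8, 47), (5, 46), (5, 45), (6, 44), (4, 43), (6, 42), (3, 41), (8, 40), (8, 39), (8, 38), (3, 37), (3, 36), (4, 35), (3, 34), (4, 33), (2, 32), (2, 31), (2, 30), (1, 29), (2, 28), (2, 27), (1, 26), (1, 25), (2, 24), (1, 23), (0, 0), (0, 1), (0, 2), (0, 3), (0, 4), (0, 5), (0, 6), (0, 7), (0, 8)], 2175⟩

def mid6_4 : Known := ⟨[(9, 56), (10, 55), (10, 54), (3, 53), (10, 52), (5, 51), (7, 50), (7, 49), (7, 48), (8, 47), (5, 46), (5, 45), (6, 44), (4, 43), (6, 42), (3, 41), (8, 40), (8, 39), (8, 38), (3, 37), (3, 36), (4, 35), (3, 34), (4, 33), (2, 32), (2, 31), (2, 30), (1, 29), (2, 28), (2, 27), (1, 26), (1, 25), (2, 24), (1, 23), (0, 0), (0, 1), (0, 2), (0, 3), (0, 4), (0, 5), (0, 6), (0, 7), (0, 8)], 2200⟩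

def mid6_5 : Known := ⟨[(9, 56), (10, 55), (10, 54), (3, 53), (10, 52), (5, 51), (7, 50), (7, 49), (7, 48), (8, 47), (5, 46), (5, 45), (6, 44), (4, 43), (6, 42), (3, 41), (8, 40), (8, 39), (8, 38), (3, 37), (3, 36), (4, 35), (3, 34), (4, 33), (2, 32), (2, 31), (2, 30), (1, 29), (2, 28), (2, 27), (1, 26), (1, 25), (2, 24), (1, 23), (0, 0), (0, 1), (0, 2), (0, 3), (0, 4), (0, 5), (0, 6), (0, 7), (0, 8)], 2225⟩

def mid6_6 : Known := ⟨[(9, 56), (10, 55), (10, 54), (3, 53), (10, 52), (5, 51), (7, 50), (7, 49), (7, 48), (8, 47), (5, 46), (5, 45), (6, 44), (4, 43), (6, 42), (3, 41), (8, 40), (8, 39), (8, 38), (3, 37), (3, 36), (4, 35), (3, 34), (4, 33), (2, 32), (2, 31), (2, 30), (1, 29), (2, 28), (2, 27), (1, 26), (1, 25), (2, 24), (1, 23), (0, 0), (0, 1), (0, 2), (0, 3), (0, 4), (0, 5), (0, 6), (0, 7), (0, 8)], 2250⟩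

def mid6_7 : Known := ⟨[(9, 56), (10, 55), (10, 54), (3, 53), (10, 52), (5, 51), (7, 50), (7, 49), (7, 48), (8, 47), (5, 46), (5, 45), (6, 44), (4, 43), (6, 42), (3, 41), (8, 40), (8, 39), (8, 38), (3, 37), (3, 36), (4, 35), (3, 34), (4, 33), (2, 32), (2, 31), (2, 30), (1, 29), (2, 28), (2, 27), (1, 26), (1, 25), (2, 24), (1, 23), (0, 0), (0, 1), (0, 2), (0, 3), (0, 4), (0, 5), (0, 6), (0, 7), (0, 8)], 2275⟩

def mid6_8 : Known := ⟨[(9, 56), (10, 55), (10, 54), (3, 53), (10, 52), (5, 51), (7, 50), (7, 49), (7, 48), (8, 47), (5, 46), (5, 45), (6, 44), (4, 43), (6, 42), (3, 41), (8, 40), (8, 39), (8, 38), (3, 37), (3, 36), (4, 35), (3, 34), (4, 33), (2, 32), (2, 31), (2, 30), (1, 29), (2, 28), (2, 27), (1, 26), (1, 25), (2, 24), (1, 23), (0, 0), (0, 1), (0, 2), (0, 3), (0, 4), (0, 5), (0, 6), (0, 7), (0, 8)], 2300⟩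

def mid6_9 : Known := ⟨[(9, 56), (10, 55), (10, 54), (3, 53), (10, 52), (5, 51), (7, 50), (7, 49), (7, 48), (8, 47), (5, 46), (5, 45), (6, 44), (4, 43), (6, 42), (3, 41), (8, 40), (8, 39), (8, 38), (3, 37), (3, 36), (4, 35), (3, 34), (4, 33), (2, 32), (2, 31), (2, 30), (1, 29), (2, 28), (2, 27), (1, 26), (1, 25), (2, 24), (1, 23), (0, 0), (0, 1), (0, 2), (0, 3), (0, 4), (0, 5), (0, 6), (0, 7), (0, 8)], 2325⟩

def mid6_10 : Known := ⟨[(9, 56), (10, 55), (10, 54), (3, 53), (10, 52), (5, 51), (7, 50), (7, 49), (7, 48), (8, 47), (5, 46), (5, 45), (6, 44), (4, 43), (6, 42), (3, 41), (8, 40), (8, 39), (8, 38), (3, 37), (3, 36), (4, 35), (3, 34), (4, 33), (2, 32), (2, 31), (2, 30), (1, 29), (2, 28), (2, 27), (1, 26), (1, 25), (2, 24), (1, 23), (0, 0), (0, 1), (0, 2), (0, 3), (0, 4), (0, 5), (0, 6), (0, 7), (0, 8)], 2350⟩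

def mid6_11 : Known := ⟨[(9, 56), (10, 55), (10, 54), (3, 53), (10, 52), (5, 51), (7, 50), (7, 49), (7, 48), (8, 47), (5, 46), (5, 45), (6, 44), (4, 43), (6, 42), (3, 41), (8, 40), (8, 39), (8, 38), (3, 37), (3, 36), (4, 35), (3, 34), (4, 33), (2, 32), (2, 31), (2, 30), (1, 29), (2, 28), (2, 27), (1, 26), (1, 25), (2, 24), (1, 23), (0, 0), (0, 1), (0, 2), (0, 3), (0, 4), (0, 5), (0, 6), (0, 7), (0, 8)], 2375⟩

def mid6_12 : Known := ⟨[(9, 56), (10, 55), (10, 54), (3, 53), (10, 52), (5, 51), (7, 50), (7, 49), (7, 48), (8, 47), (5, 46), (5, 45), (6, 44), (4, 43), (6, 42), (3, 41), (8, 40), (8, 39), (8, 38), (3, 37), (3, 36), (4, 35), (3, 34), (4, 33), (2, 32), (2, 31), (2, 30), (1, 29), (2, 28), (2, 27), (1, 26), (1, 25), (2, 24), (1, 23), (0, 0), (0, 1), (0, 2), (0, 3), (0, 4), (0, 5), (0, 6), (0, 7), (0, 8)], 2400⟩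

def mid6_13 : Known := ⟨[(9, 56), (10, 55), (10, 54), (3, 53), (10, 52), (5, 51), (7, 50), (7, 49), (7, 48), (8, 47), (5, 46), (5, 45), (6, 44), (4, 43), (6, 42), (3, 41), (8, 40), (8, 39), (8, 38), (3, 37), (3, 36), (4, 35), (3, 34), (4, 33), (2, 32), (2, 31), (2, 30), (1, 29), (2, 28), (2, 27), (1, 26), (1, 25), (2, 24), (1, 23), (0, 0), (0, 1), (0, 2), (0, 3), (0, 4), (0, 5), (0, 6), (0, 7), (0, 8)], 2425⟩

def mid6_14 : Known := ⟨[(9, 56), (10, 55), (10, 54), (3, 53), (10, 52), (5, 51), (7, 50), (7, 49), (7, 48), (8, 47), (5, 46), (5, 45), (6, 44), (4, 43), (6, 42), (3, 41), (8, 40), (8, 39), (8, 38), (3, 37), (3, 36), (4, 35), (3, 34), (4, 33), (2, 32), (2, 31), (2, 30), (1, 29), (2, 28), (2, 27), (1, 26), (1, 25), (2, 24), (1, 23), (0, 0), (0, 1), (0, 2), (0, 3), (0, 4), (0, 5), (0, 6), (0, 7), (0, 8)], 2450⟩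

def known7 : Known := ⟨[(9, 56), (10, 55), (10, 54), (3, 53), (10, 52), (5, 51), (7, 50), (7, 49), (7, 48), (8, 47), (5, 46), (5, 45), (6, 44), (4, 43), (6, 42), (3, 41), (8, 40), (8, 39), (8, 38), (3, 37), (3, 36), (4, 35), (3, 34), (4, 33), (2, 32), (2, 31), (2, 30), (1, 29), (2, 28), (2, 27), (1, 26), (1, 25), (2, 24), (1, 23), (0, 0), (0, 1), (0, 2), (0, 3), (0, 4), (0, 5), (0, 6), (0, 7), (0, 8)], 2454⟩

def mid7_1 : Known := ⟨[(9, 56), (10, 55), (10, 54), (3, 53), (10, 52), (5, 51), (7, 50), (7, 49), (7, 48), (8, 47), (5, 46), (5, 45), (6, 44), (4, 43), (6, 42), (3, 41), (8, 40), (8, 39), (8, 38), (3, 37), (3, 36), (4, 35), (3, 34), (4, 33), (2, 32), (2, 31), (2, 30), (1, 29), (2, 28), (2, 27), (1, 26), (1, 25), (2, 24), (1, 23), (0, 0), (0, 1), (0, 2), (0, 3), (0, 4), (0, 5), (0, 6), (0, 7), (0, 8)], 2479⟩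

def mid7_2 : Known := ⟨[(9, 56), (10, 55), (10, 54), (3, 53), (10, 52), (5, 51), (7, 50), (7, 49), (7, 48), (8, 47), (5, 46), (5, 45), (6, 44), (4, 43), (6, 42), (3, 41), (8, 40), (8, 39), (8, 38), (3, 37), (3, 36), (4, 35), (3, 34), (4, 33), (2, 32), (2, 31), (2, 30), (1, 29), (2, 28), (2, 27), (1, 26), (1, 25), (2, 24), (1, 23), (0, 0), (0, 1), (0, 2), (0, 3), (0, 4), (0, 5), (0, 6), (0, 7), (0, 8)], 2504⟩

def mid7_3 : Known := ⟨[(9, 56), (10, 55), (10, 54), (3, 53), (10, 52), (5, 51), (7, 50), (7, 49), (7, 48), (8, 47), (5, 46), (5, 45), (6, 44), (4, 43), (6, 42), (3, 41), (8, 40), (8, 39), (8, 38), (3, 37), (3, 36), (4, 35), (3, 34), (4, 33), (2, 32), (2, 31), (2, 30), (1, 29), (2, 28), (2, 27), (1, 26), (1, 25), (2, 24), (1, 23), (0, 0), (0, 1), (0, 2), (0, 3), (0, 4), (0, 5), (0, 6), (0, 7), (0, 8)], 2529⟩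

def mid7_4 : Known := ⟨[(9, 56), (10, 55), (10, 54), (3, 53), (10, 52), (5, 51), (7, 50), (7, 49), (7, 48), (8, 47), (5, 46), (5, 45), (6, 44), (4, 43), (6, 42), (3, 41), (8, 40), (8, 39), (8, 38), (3, 37), (3, 36), (4, 35), (3, 34), (4, 33), (2, 32), (2, 31), (2, 30), (1, 29), (2, 28), (2, 27), (1, 26), (1, 25), (2, 24), (1, 23), (0, 0), (0, 1), (0, 2), (0, 3), (0, 4), (0, 5), (0, 6), (0, 7), (0, 8)], 2554⟩

def mid7_5 : Known := ⟨[(9, 56), (10, 55), (10, 54), (3, 53), (10, 52), (5, 51), (7, 50), (7, 49), (7, 48), (8, 47), (5, 46), (5, 45), (6, 44), (4, 43), (6, 42), (3, 41), (8, 40), (8, 39), (8, 38), (3, 37), (3, 36), (4, 35), (3, 34), (4, 33), (2, 32), (2, 31), (2, 30), (1, 29), (2, 28), (2, 27), (1, 26), (1, 25), (2, 24), (1, 23), (0, 0), (0, 1), (0, 2), (0, 3), (0, 4), (0, 5), (0, 6), (0, 7), (0, 8)], 2579⟩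

def mid7_6 : Known := ⟨[(9, 56), (10, 55), (10, 54), (3, 53), (10, 52), (5, 51), (7, 50), (7, 49), (7, 48), (8, 47), (5, 46), (5, 45), (6, 44), (4, 43), (6, 42), (3, 41), (8, 40), (8, 39), (8, 38), (3, 37), (3, 36), (4, 35), (3, 34), (4, 33), (2, 32), (2, 31), (2, 30), (1, 29), (2, 28), (2, 27), (1, 26), (1, 25), (2, 24), (1, 23), (0, 0), (0, 1), (0, 2), (0, 3), (0, 4), (0, 5), (0, 6), (0, 7), (0, 8)], 2604⟩

def mid7_7 : Known := ⟨[(9, 56), (10, 55), (10, 54), (3, 53), (10, 52), (5, 51), (7, 50), (7, 49), (7, 48), (8, 47), (5, 46), (5, 45), (6, 44), (4, 43), (6, 42), (3, 41), (8, 40), (8, 39), (8, 38), (3, 37), (3, 36), (4, 35), (3, 34), (4, 33), (2, 32), (2, 31), (2, 30), (1, 29), (2, 28), (2, 27), (1, 26), (1, 25), (2, 24), (1, 23), (0, 0), (0, 1), (0, 2), (0, 3), (0, 4), (0, 5), (0, 6), (0, 7), (0, 8)], 2629⟩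

def mid7_8 : Known := ⟨[(9, 56), (10, 55), (10, 54), (3, 53), (10, 52), (5, 51), (7, 50), (7, 49), (7, 48), (8, 47), (5, 46), (5, 45), (6, 44), (4, 43), (6, 42), (3, 41), (8, 40), (8, 39), (8, 38), (3, 37), (3, 36), (4, 35), (3, 34), (4, 33), (2, 32), (2, 31), (2, 30), (1, 29), (2, 28), (2, 27), (1, 26), (1, 25), (2, 24), (1, 23), (0, 0), (0, 1), (0, 2), (0, 3), (0, 4), (0, 5), (0, 6), (0, 7), (0, 8)], 2654⟩

def mid7_9 : Known := ⟨[(9, 56), (10, 55), (10, 54), (3, 53), (10, 52), (5, 51), (7, 50), (7, 49), (7, 48), (8, 47), (5, 46), (5, 45), (6, 44), (4, 43), (6, 42), (3, 41), (8, 40), (8, 39), (8, 38), (3, 37), (3, 36), (4, 35), (3, 34), (4, 33), (2, 32), (2, 31), (2, 30), (1, 29), (2, 28), (2, 27), (1, 26), (1, 25), (2, 24), (1, 23), (0, 0), (0, 1), (0, 2), (0, 3), (0, 4), (0, 5), (0, 6), (0, 7), (0, 8)], 2679⟩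

def mid7_10 : Known := ⟨[(9, 56), (10, 55), (10, 54), (3, 53), (10, 52), (5, 51), (7, 50), (7, 49), (7, 48), (8, 47), (5, 46), (5, 45), (6, 44), (4, 43), (6, 42), (3, 41), (8, 40), (8, 39), (8, 38), (3, 37), (3, 36), (4, 35), (3, 34), (4, 33), (2, 32), (2, 31), (2, 30), (1, 29), (2, 28), (2, 27), (1, 26), (1, 25), (2, 24), (1, 23), (0, 0), (0, 1), (0, 2), (0, 3), (0, 4), (0, 5), (0, 6), (0, 7), (0, 8)], 2704⟩

def mid7_11 : Known := ⟨[(9, 56), (10, 55), (10, 54), (3, 53), (10, 52), (5, 51), (7, 50), (7, 49), (7, 48), (8, 47), (5, 46), (5, 45), (6, 44), (4, 43), (6, 42), (3, 41), (8, 40), (8, 39), (8, 38), (3, 37), (3, 36), (4, 35), (3, 34), (4, 33), (2, 32), (2, 31), (2, 30), (1, 29), (2, 28), (2, 27), (1, 26), (1, 25), (2, 24), (1, 23), (0, 0), (0, 1), (0, 2), (0, 3), (0, 4), (0, 5), (0, 6), (0, 7), (0, 8)], 2729⟩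

def mid7_12 : Known := ⟨[(9, 56), (10, 55), (10, 54), (3, 53), (10, 52), (5, 51), (7, 50), (7, 49), (7, 48), (8, 47), (5, 46), (5, 45), (6, 44), (4, 43), (6, 42), (3, 41), (8, 40), (8, 39), (8, 38), (3, 37), (3, 36), (4, 35), (3, 34), (4, 33), (2, 32), (2, 31), (2, 30), (1, 29), (2, 28), (2, 27), (1, 26), (1, 25), (2, 24), (1, 23), (0, 0), (0, 1), (0, 2), (0, 3), (0, 4), (0, 5), (0, 6), (0, 7), (0, 8)], 2754⟩

def mid7_13 : Known := ⟨[(9, 56), (10, 55), (10, 54), (3, 53), (10, 52), (5, 51), (7, 50), (7, 49), (7, 48), (8, 47), (5, 46), (5, 45), (6, 44), (4, 43), (6, 42), (3, 41), (8, 40), (8, 39), (8, 38), (3, 37), (3, 36), (4, 35), (3, 34), (4, 33), (2, 32), (2, 31), (2, 30), (1, 29), (2, 28), (2, 27), (1, 26), (1, 25), (2, 24), (1, 23), (0, 0), (0, 1), (0, 2), (0, 3), (0, 4), (0, 5), (0, 6), (0, 7), (0, 8)], 2779⟩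

def mid7_14 : Known := ⟨[(9, 56), (10, 55), (10, 54), (3, 53), (10, 52), (5, 51), (7, 50), (7, 49), (7, 48), (8, 47), (5, 46), (5, 45), (6, 44), (4, 43), (6, 42), (3, 41), (8, 40), (8, 39), (8, 38), (3, 37), (3, 36), (4, 35), (3, 34), (4, 33), (2, 32), (2, 31), (2, 30), (1, 29), (2, 28), (2, 27), (1, 26), (1, 25), (2, 24), (1, 23), (0, 0), (0, 1), (0, 2), (0, 3), (0, 4), (0, 5), (0, 6), (0, 7), (0, 8)], 2804⟩

def known8 : Known := ⟨[(9, 56), (10, 55), (10, 54), (3, 53), (10, 52), (5, 51), (7, 50), (7, 49), (7, 48), (8, 47), (5, 46), (5, 45), (6, 44), (4, 43), (6, 42), (3, 41), (8, 40), (8, 39), (8, 38), (3, 37), (3, 36), (4, 35), (3, 34), (4, 33), (2, 32), (2, 31), (2, 30), (1, 29), (2, 28), (2, 27), (1, 26), (1, 25), (2, 24), (1, 23), (0, 0), (0, 1), (0, 2), (0, 3), (0, 4), (0, 5), (0, 6), (0, 7), (0, 8)], 2808⟩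

def mid8_1 : Known := ⟨[(9, 56), (10, 55), (10, 54), (3, 53), (10, 52), (5, 51), (7, 50), (7, 49), (7, 48), (8, 47), (5, 46), (5, 45), (6, 44), (4, 43), (6, 42), (3, 41), (8, 40), (8, 39), (8, 38), (3, 37), (3, 36), (4, 35), (3, 34), (4, 33), (2, 32), (2, 31), (2, 30), (1, 29), (2, 28), (2, 27), (1, 26), (1, 25), (2, 24), (1, 23), (0, 0), (0, 1), (0, 2), (0, 3), (0, 4), (0, 5), (0, 6), (0, 7), (0, 8)], 2833⟩

def mid8_2 : Known := ⟨[(9, 56), (10, 55), (10, 54), (3, 53), (10, 52), (5, 51), (7, 50), (7, 49), (7, 48), (8, 47), (5, 46), (5, 45), (6, 44), (4, 43), (6, 42), (3, 41), (8, 40), (8, 39), (8, 38), (3, 37), (3, 36), (4, 35), (3, 34), (4, 33), (2, 32), (2, 31), (2, 30), (1, 29), (2, 28), (2, 27), (1, 26), (1, 25), (2, 24), (1, 23), (0, 0), (0, 1), (0, 2), (0, 3), (0, 4), (0, 5), (0, 6), (0, 7), (0, 8)], 2858⟩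

def mid8_3 : Known := ⟨[(9, 56), (10, 55), (10, 54), (3, 53), (10, 52), (5, 51), (7, 50), (7, 49), (7, 48), (8, 47), (5, 46), (5, 45), (6, 44), (4, 43), (6, 42), (3, 41), (8, 40), (8, 39), (8, 38), (3, 37), (3, 36), (4, 35), (3, 34), (4, 33), (2, 32), (2, 31), (2, 30), (1, 29), (2, 28), (2, 27), (1, 26), (1, 25), (2, 24), (1, 23), (0, 0), (0, 1), (0, 2), (0, 3), (0, 4), (0, 5), (0, 6), (0, 7), (0, 8)], 2883⟩

def mid8_4 : Known := ⟨[(9, 56), (10, 55), (10, 54), (3, 53), (10, 52), (5, 51), (7, 50), (7, 49), (7, 48), (8, 47), (5, 46), (5, 45), (6, 44), (4, 43), (6, 42), (3, 41), (8, 40), (8, 39), (8, 38), (3, 37), (3, 36), (4, 35), (3, 34), (4, 33), (2, 32), (2, 31), (2, 30), (1, 29), (2, 28), (2, 27), (1, 26), (1, 25), (2, 24), (1, 23), (0, 0), (0, 1), (0, 2), (0, 3), (0, 4), (0, 5), (0, 6), (0, 7), (0, 8)], 2908⟩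

def mid8_5 : Known := ⟨[(10, 57), (9, 56), (10, 55), (10, 54), (3, 53), (10, 52), (5, 51), (7, 50), (7, 49), (7, 48), (8, 47), (5, 46), (5, 45), (6, 44), (4, 43), (6, 42), (3, 41), (8, 40), (8, 39), (8, 38), (3, 37), (3, 36), (4, 35), (3, 34), (4, 33), (2, 32), (2, 31), (2, 30), (1, 29), (2, 28), (2, 27), (1, 26), (1, 25), (2, 24), (1, 23), (0, 0), (0, 1), (0, 2), (0, 3), (0, 4), (0, 5), (0, 6), (0, 7), (0, 8)], 2932⟩

def mid8_6 : Known := ⟨[(10, 57), (9, 56), (10, 55), (10, 54), (3, 53), (10, 52), (5, 51), (7, 50), (7, 49), (7, 48), (8, 47), (5, 46), (5, 45), (6, 44), (4, 43), (6, 42), (3, 41), (8, 40), (8, 39), (8, 38), (3, 37), (3, 36), (4, 35), (3, 34), (4, 33), (2, 32), (2, 31), (2, 30), (1, 29), (2, 28), (2, 27), (1, 26), (1, 25), (2, 24), (1, 23), (0, 0), (0, 1), (0, 2), (0, 3), (0, 4), (0, 5), (0, 6), (0, 7), (0, 8)], 2957⟩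

def mid8_7 : Known := ⟨[(10, 57), (9, 56), (10, 55), (10, 54), (3, 53), (10, 52), (5, 51), (7, 50), (7, 49), (7, 48), (8, 47), (5, 46), (5, 45), (6, 44), (4, 43), (6, 42), (3, 41), (8, 40), (8, 39), (8, 38), (3, 37), (3, 36), (4, 35), (3, 34), (4, 33), (2, 32), (2, 31), (2, 30), (1, 29), (2, 28), (2, 27), (1, 26), (1, 25), (2, 24), (1, 23), (0, 0), (0, 1), (0, 2), (0, 3), (0, 4), (0, 5), (0, 6), (0, 7), (0, 8)], 2982⟩

def mid8_8 : Known := ⟨[(10, 57), (9, 56), (10, 55), (10, 54), (3, 53), (10, 52), (5, 51), (7, 50), (7, 49), (7, 48), (8, 47), (5, 46), (5, 45), (6, 44), (4, 43), (6, 42), (3, 41), (8, 40), (8, 39), (8, 38), (3, 37), (3, 36), (4, 35), (3, 34), (4, 33), (2, 32), (2, 31), (2, 30), (1, 29), (2, 28), (2, 27), (1, 26), (1, 25), (2, 24), (1, 23), (0, 0), (0, 1), (0, 2), (0, 3), (0, 4), (0, 5), (0, 6), (0, 7), (0, 8)], 3007⟩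

def mid8_9 : Known := ⟨[(10, 57), (9, 56), (10, 55), (10, 54), (3, 53), (10, 52), (5, 51), (7, 50), (7, 49), (7, 48), (8, 47), (5, 46), (5, 45), (6, 44), (4, 43), (6, 42), (3, 41), (8, 40), (8, 39), (8, 38), (3, 37), (3, 36), (4, 35), (3, 34), (4, 33), (2, 32), (2, 31), (2, 30), (1, 29), (2, 28), (2, 27), (1, 26), (1, 25), (2, 24), (1, 23), (0, 0), (0, 1), (0, 2), (0, 3), (0, 4), (0, 5), (0, 6), (0, 7), (0, 8)], 3032⟩

def mid8_10 : Known := ⟨[(10, 57), (9, 56), (10, 55), (10, 54), (3, 53), (10, 52), (5, 51), (7, 50), (7, 49), (7, 48), (8, 47), (5, 46), (5, 45), (6, 44), (4, 43), (6, 42), (3, 41), (8, 40), (8, 39), (8, 38), (3, 37), (3, 36), (4, 35), (3, 34), (4, 33), (2, 32), (2, 31), (2, 30), (1, 29), (2, 28), (2, 27), (1, 26), (1, 25), (2, 24), (1, 23), (0, 0), (0, 1), (0, 2), (0, 3), (0, 4), (0, 5), (0, 6), (0, 7), (0, 8)], 3057⟩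

def mid8_11 : Known := ⟨[(10, 57), (9, 56), (10, 55), (10, 54), (3, 53), (10, 52), (5, 51), (7, 50), (7, 49), (7, 48), (8, 47), (5, 46), (5, 45), (6, 44), (4, 43), (6, 42), (3, 41), (8, 40), (8, 39), (8, 38), (3, 37), (3, 36), (4, 35), (3, 34), (4, 33), (2, 32), (2, 31), (2, 30), (1, 29), (2, 28), (2, 27), (1, 26), (1, 25), (2, 24), (1, 23), (0, 0), (0, 1), (0, 2), (0, 3), (0, 4), (0, 5), (0, 6), (0, 7), (0, 8)], 3082⟩

def mid8_12 : Known := ⟨[(10, 57), (9, 56), (10, 55), (10, 54), (3, 53), (10, 52), (5, 51), (7, 50), (7, 49), (7, 48), (8, 47), (5, 46), (5, 45), (6, 44), (4, 43), (6, 42), (3, 41), (8, 40), (8, 39), (8, 38), (3, 37), (3, 36), (4, 35), (3, 34), (4, 33), (2, 32), (2, 31), (2, 30), (1, 29), (2, 28), (2, 27), (1, 26), (1, 25), (2, 24), (1, 23), (0, 0), (0, 1), (0, 2), (0, 3), (0, 4), (0, 5), (0, 6), (0, 7), (0, 8)], 3107⟩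

def mid8_13 : Known := ⟨[(10, 57), (9, 56), (10, 55), (10, 54), (3, 53), (10, 52), (5, 51), (7, 50), (7, 49), (7, 48), (8, 47), (5, 46), (5, 45), (6, 44), (4, 43), (6, 42), (3, 41), (8, 40), (8, 39), (8, 38), (3, 37), (3, 36), (4, 35), (3, 34), (4, 33), (2, 32), (2, 31), (2, 30), (1, 29), (2, 28), (2, 27), (1, 26), (1, 25), (2, 24), (1, 23), (0, 0), (0, 1), (0, 2), (0, 3), (0, 4), (0, 5), (0, 6), (0, 7), (0, 8)], 3132⟩

def mid8_14 : Known := ⟨[(10, 57), (9, 56), (10, 55), (10, 54), (3, 53), (10, 52), (5, 51), (7, 50), (7, 49), (7, 48), (8, 47), (5, 46), (5, 45), (6, 44), (4, 43), (6, 42), (3, 41), (8, 40), (8, 39), (8, 38), (3, 37), (3, 36), (4, 35), (3, 34), (4, 33), (2, 32), (2, 31), (2, 30), (1, 29), (2, 28), (2, 27), (1, 26), (1, 25), (2, 24), (1, 23), (0, 0), (0, 1), (0, 2), (0, 3), (0, 4), (0, 5), (0, 6), (0, 7), (0, 8)], 3157⟩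

def known9 : Known := ⟨[(10, 57), (9, 56), (10, 55), (10, 54), (3, 53), (10, 52), (5, 51), (7, 50), (7, 49), (7, 48), (8, 47), (5, 46), (5, 45), (6, 44), (4, 43), (6, 42), (3, 41), (8, 40), (8, 39), (8, 38), (3, 37), (3, 36), (4, 35), (3, 34), (4, 33), (2, 32), (2, 31), (2, 30), (1, 29), (2, 28), (2, 27), (1, 26), (1, 25), (2, 24), (1, 23), (0, 0), (0, 1), (0, 2), (0, 3), (0, 4), (0, 5), (0, 6), (0, 7), (0, 8)], 3161⟩

def mid9_1 : Known := ⟨[(10, 57), (9, 56), (10, 55), (10, 54), (3, 53), (10, 52), (5, 51), (7, 50), (7, 49), (7, 48), (8, 47), (5, 46), (5, 45), (6, 44), (4, 43), (6, 42), (3, 41), (8, 40), (8, 39), (8, 38), (3, 37), (3, 36), (4, 35), (3, 34), (4, 33), (2, 32), (2, 31), (2, 30), (1, 29), (2, 28), (2, 27), (1, 26), (1, 25), (2, 24), (1, 23), (0, 0), (0, 1), (0, 2), (0, 3), (0, 4), (0, 5), (0, 6), (0, 7), (0, 8)], 3186⟩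

def mid9_2 : Known := ⟨[(10, 57), (9, 56), (10, 55), (10, 54), (3, 53), (10, 52), (5, 51), (7, 50), (7, 49), (7, 48), (8, 47), (5, 46), (5, 45), (6, 44), (4, 43), (6, 42), (3, 41), (8, 40), (8, 39), (8, 38), (3, 37), (3, 36), (4, 35), (3, 34), (4, 33), (2, 32), (2, 31), (2, 30), (1, 29), (2, 28), (2, 27), (1, 26), (1, 25), (2, 24), (1, 23), (0, 0), (0, 1), (0, 2), (0, 3), (0, 4), (0, 5), (0, 6), (0, 7), (0, 8)], 3211⟩

def mid9_3 : Known := ⟨[(10, 57), (9, 56), (10, 55), (10, 54), (3, 53), (10, 52), (5, 51), (7, 50), (7, 49), (7, 48), (8, 47), (5, 46), (5, 45), (6, 44), (4, 43), (6, 42), (3, 41), (8, 40), (8, 39), (8, 38), (3, 37), (3, 36), (4, 35), (3, 34), (4, 33), (2, 32), (2, 31), (2, 30), (1, 29), (2, 28), (2, 27), (1, 26), (1, 25), (2, 24), (1, 23), (0, 0), (0, 1), (0, 2), (0, 3), (0, 4), (0, 5), (0, 6), (0, 7), (0, 8)], 3236⟩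

def mid9_4 : Known := ⟨[(10, 57), (9, 56), (10, 55), (10, 54), (3, 53), (10, 52), (5, 51), (7, 50), (7, 49), (7, 48), (8, 47), (5, 46), (5, 45), (6, 44), (4, 43), (6, 42), (3, 41), (8, 40), (8, 39), (8, 38), (3, 37), (3, 36), (4, 35), (3, 34), (4, 33), (2, 32), (2, 31), (2, 30), (1, 29), (2, 28), (2, 27), (1, 26), (1, 25), (2, 24), (1, 23), (0, 0), (0, 1), (0, 2), (0, 3), (0, 4), (0, 5), (0, 6), (0, 7), (0, 8)], 3261⟩

def mid9_5 : Known := ⟨[(9, 58), (10, 57), (9, 56), (10, 55), (10, 54), (3, 53), (10, 52), (5, 51), (7, 50), (7, 49), (7, 48), (8, 47), (5, 46), (5, 45), (6, 44), (4, 43), (6, 42), (3, 41), (8, 40), (8, 39), (8, 38), (3, 37), (3, 36), (4, 35), (3, 34), (4, 33), (2, 32), (2, 31), (2, 30), (1, 29), (2, 28), (2, 27), (1, 26), (1, 25), (2, 24), (1, 23), (0, 0), (0, 1), (0, 2), (0, 3), (0, 4), (0, 5), (0, 6), (0, 7), (0, 8)], 3285⟩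

def mid9_6 : Known := ⟨[(9, 58), (10, 57), (9, 56), (10, 55), (10, 54), (3, 53), (10, 52), (5, 51), (7, 50), (7, 49), (7, 48), (8, 47), (5, 46), (5, 45), (6, 44), (4, 43), (6, 42), (3, 41), (8, 40), (8, 39), (8, 38), (3, 37), (3, 36), (4, 35), (3, 34), (4, 33), (2, 32), (2, 31), (2, 30), (1, 29), (2, 28), (2, 27), (1, 26), (1, 25), (2, 24), (1, 23), (0, 0), (0, 1), (0, 2), (0, 3), (0, 4), (0, 5), (0, 6), (0, 7), (0, 8)], 3310⟩

def mid9_7 : Known := ⟨[(9, 58), (10, 57), (9, 56), (10, 55), (10, 54), (3, 53), (10, 52), (5, 51), (7, 50), (7, 49), (7, 48), (8, 47), (5, 46), (5, 45), (6, 44), (4, 43), (6, 42), (3, 41), (8, 40), (8, 39), (8, 38), (3, 37), (3, 36), (4, 35), (3, 34), (4, 33), (2, 32), (2, 31), (2, 30), (1, 29), (2, 28), (2, 27), (1, 26), (1, 25), (2, 24), (1, 23), (0, 0), (0, 1), (0, 2), (0, 3), (0, 4), (0, 5), (0, 6), (0, 7), (0, 8)], 3335⟩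

def mid9_8 : Known := ⟨[(9, 58), (10, 57), (9, 56), (10, 55), (10, 54), (3, 53), (10, 52), (5, 51), (7, 50), (7, 49), (7, 48), (8, 47), (5, 46), (5, 45), (6, 44), (4, 43), (6, 42), (3, 41), (8, 40), (8, 39), (8, 38), (3, 37), (3, 36), (4, 35), (3, 34), (4, 33), (2, 32), (2, 31), (2, 30), (1, 29), (2, 28), (2, 27), (1, 26), (1, 25), (2, 24), (1, 23), (0, 0), (0, 1), (0, 2), (0, 3), (0, 4), (0, 5), (0, 6), (0, 7), (0, 8)], 3360⟩

def mid9_9 : Known := ⟨[(9, 58), (10, 57), (9, 56), (10, 55), (10, 54), (3, 53), (10, 52), (5, 51), (7, 50), (7, 49), (7, 48), (8, 47), (5, 46), (5, 45), (6, 44), (4, 43), (6, 42), (3, 41), (8, 40), (8, 39), (8, 38), (3, 37), (3, 36), (4, 35), (3, 34), (4, 33), (2, 32), (2, 31), (2, 30), (1, 29), (2, 28), (2, 27), (1, 26), (1, 25), (2, 24), (1, 23), (0, 0), (0, 1), (0, 2), (0, 3), (0, 4), (0, 5), (0, 6), (0, 7), (0, 8)], 3385⟩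

def mid9_10 : Known := ⟨[(9, 58), (10, 57), (9, 56), (10, 55), (10, 54), (3, 53), (10, 52), (5, 51), (7, 50), (7, 49), (7, 48), (8, 47), (5, 46), (5, 45), (6, 44), (4, 43), (6, 42), (3, 41), (8, 40), (8, 39), (8, 38), (3, 37), (3, 36), (4, 35), (3, 34), (4, 33), (2, 32), (2, 31), (2, 30), (1, 29), (2, 28), (2, 27), (1, 26), (1, 25), (2, 24), (1, 23), (0, 0), (0, 1), (0, 2), (0, 3), (0, 4), (0, 5), (0, 6), (0, 7), (0, 8)], 3410⟩

def mid9_11 : Known := ⟨[(9, 58), (10, 57), (9, 56), (10, 55), (10, 54), (3, 53), (10, 52), (5, 51), (7, 50), (7, 49), (7, 48), (8, 47), (5, 46), (5, 45), (6, 44), (4, 43), (6, 42), (3, 41), (8, 40), (8, 39), (8, 38), (3, 37), (3, 36), (4, 35), (3, 34), (4, 33), (2, 32), (2, 31), (2, 30), (1, 29), (2, 28), (2, 27), (1, 26), (1, 25), (2, 24), (1, 23), (0, 0), (0, 1), (0, 2), (0, 3), (0, 4), (0, 5), (0, 6), (0, 7), (0, 8)], 3435⟩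

def mid9_12 : Known := ⟨[(9, 58), (10, 57), (9, 56), (10, 55), (10, 54), (3, 53), (10, 52), (5, 51), (7, 50), (7, 49), (7, 48), (8, 47), (5, 46), (5, 45), (6, 44), (4, 43), (6, 42), (3, 41), (8, 40), (8, 39), (8, 38), (3, 37), (3, 36), (4, 35), (3, 34), (4, 33), (2, 32), (2, 31), (2, 30), (1, 29), (2, 28), (2, 27), (1, 26), (1, 25), (2, 24), (1, 23), (0, 0), (0, 1), (0, 2), (0, 3), (0, 4), (0, 5), (0, 6), (0, 7), (0, 8)], 3460⟩

def mid9_13 : Known := ⟨[(9, 58), (10, 57), (9, 56), (10, 55), (10, 54), (3, 53), (10, 52), (5, 51), (7, 50), (7, 49), (7, 48), (8, 47), (5, 46), (5, 45), (6, 44), (4, 43), (6, 42), (3, 41), (8, 40), (8, 39), (8, 38), (3, 37), (3, 36), (4, 35), (3, 34), (4, 33), (2, 32), (2, 31), (2, 30), (1, 29), (2, 28), (2, 27), (1, 26), (1, 25), (2, 24), (1, 23), (0, 0), (0, 1), (0, 2), (0, 3), (0, 4), (0, 5), (0, 6), (0, 7), (0, 8)], 3485⟩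

def mid9_14 : Known := ⟨[(9, 58), (10, 57), (9, 56), (10, 55), (10, 54), (3, 53), (10, 52), (5, 51), (7, 50), (7, 49), (7, 48), (8, 47), (5, 46), (5, 45), (6, 44), (4, 43), (6, 42), (3, 41), (8, 40), (8, 39), (8, 38), (3, 37), (3, 36), (4, 35), (3, 34), (4, 33), (2, 32), (2, 31), (2, 30), (1, 29), (2, 28), (2, 27), (1, 26), (1, 25), (2, 24), (1, 23), (0, 0), (0, 1), (0, 2), (0, 3), (0, 4), (0, 5), (0, 6), (0, 7), (0, 8)], 3510⟩

def known10 : Known := ⟨[(9, 58), (10, 57), (9, 56), (10, 55), (10, 54), (3, 53), (10, 52), (5, 51), (7, 50), (7, 49), (7, 48), (8, 47), (5, 46), (5, 45), (6, 44), (4, 43), (6, 42), (3, 41), (8, 40), (8, 39), (8, 38), (3, 37), (3, 36), (4, 35), (3, 34), (4, 33), (2, 32), (2, 31), (2, 30), (1, 29), (2, 28), (2, 27), (1, 26), (1, 25), (2, 24), (1, 23), (0, 0), (0, 1), (0, 2), (0, 3), (0, 4), (0, 5), (0, 6), (0, 7), (0, 8)], 3514⟩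

def mid10_1 : Known := ⟨[(9, 58), (10, 57), (9, 56), (10, 55), (10, 54), (3, 53), (10, 52), (5, 51), (7, 50), (7, 49), (7, 48), (8, 47), (5, 46), (5, 45), (6, 44), (4, 43), (6, 42), (3, 41), (8, 40), (8, 39), (8, 38), (3, 37), (3, 36), (4, 35), (3, 34), (4, 33), (2, 32), (2, 31), (2, 30), (1, 29), (2, 28), (2, 27), (1, 26), (1, 25), (2, 24), (1, 23), (0, 0), (0, 1), (0, 2), (0, 3), (0, 4), (0, 5), (0, 6), (0, 7), (0, 8)], 3539⟩

def mid10_2 : Known := ⟨[(9, 58), (10, 57), (9, 56), (10, 55), (10, 54), (3, 53), (10, 52), (5, 51), (7, 50), (7, 49), (7, 48), (8, 47), (5, 46), (5, 45), (6, 44), (4, 43), (6, 42), (3, 41), (8, 40), (8, 39), (8, 38), (3, 37), (3, 36), (4, 35), (3, 34), (4, 33), (2, 32), (2, 31), (2, 30), (1, 29), (2, 28), (2, 27), (1, 26), (1, 25), (2, 24), (1, 23), (0, 0), (0, 1), (0, 2), (0, 3), (0, 4), (0, 5), (0, 6), (0, 7), (0, 8)], 3564⟩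

def mid10_3 : Known := ⟨[(9, 58), (10, 57), (9, 56), (10, 55), (10, 54), (3, 53), (10, 52), (5, 51), (7, 50), (7, 49), (7, 48), (8, 47), (5, 46), (5, 45), (6, 44), (4, 43), (6, 42), (3, 41), (8, 40), (8, 39), (8, 38), (3, 37), (3, 36), (4, 35), (3, 34), (4, 33), (2, 32), (2, 31), (2, 30), (1, 29), (2, 28), (2, 27), (1, 26), (1, 25), (2, 24), (1, 23), (0, 0), (0, 1), (0, 2), (0, 3), (0, 4), (0, 5), (0, 6), (0, 7), (0, 8)], 3589⟩

def mid10_4 : Known := ⟨[(9, 58), (10, 57), (9, 56), (10, 55), (10, 54), (3, 53), (10, 52), (5, 51), (7, 50), (7, 49), (7, 48), (8, 47), (5, 46), (5, 45), (6, 44), (4, 43), (6, 42), (3, 41), (8, 40), (8, 39), (8, 38), (3, 37), (3, 36), (4, 35), (3, 34), (4, 33), (2, 32), (2, 31), (2, 30), (1, 29), (2, 28), (2, 27), (1, 26), (1, 25), (2, 24), (1, 23), (0, 0), (0, 1), (0, 2), (0, 3), (0, 4), (0, 5), (0, 6), (0, 7), (0, 8)], 3614⟩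

def mid10_5 : Known := ⟨[(9, 58), (10, 57), (9, 56), (10, 55), (10, 54), (3, 53), (10, 52), (5, 51), (7, 50), (7, 49), (7, 48), (8, 47), (5, 46), (5, 45), (6, 44), (4, 43), (6, 42), (3, 41), (8, 40), (8, 39), (8, 38), (3, 37), (3, 36), (4, 35), (3, 34), (4, 33), (2, 32), (2, 31), (2, 30), (1, 29), (2, 28), (2, 27), (1, 26), (1, 25), (2, 24), (1, 23), (0, 0), (0, 1), (0, 2), (0, 3), (0, 4), (0, 5), (0, 6), (0, 7), (0, 8)], 3639⟩

def mid10_6 : Known := ⟨[(9, 58), (10, 57), (9, 56), (10, 55), (10, 54), (3, 53), (10, 52), (5, 51), (7, 50), (7, 49), (7, 48), (8, 47), (5, 46), (5, 45), (6, 44), (4, 43), (6, 42), (3, 41), (8, 40), (8, 39), (8, 38), (3, 37), (3, 36), (4, 35), (3, 34), (4, 33), (2, 32), (2, 31), (2, 30), (1, 29), (2, 28), (2, 27), (1, 26), (1, 25), (2, 24), (1, 23), (0, 0), (0, 1), (0, 2), (0, 3), (0, 4), (0, 5), (0, 6), (0, 7), (0, 8)], 3664⟩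

def mid10_7 : Known := ⟨[(9, 58), (10, 57), (9, 56), (10, 55), (10, 54), (3, 53), (10, 52), (5, 51), (7, 50), (7, 49), (7, 48), (8, 47), (5, 46), (5, 45), (6, 44), (4, 43), (6, 42), (3, 41), (8, 40), (8, 39), (8, 38), (3, 37), (3, 36), (4, 35), (3, 34), (4, 33), (2, 32), (2, 31), (2, 30), (1, 29), (2, 28), (2, 27), (1, 26), (1, 25), (2, 24), (1, 23), (0, 0), (0, 1), (0, 2), (0, 3), (0, 4), (0, 5), (0, 6), (0, 7), (0, 8)], 3689⟩

def mid10_8 : Known := ⟨[(9, 58), (10, 57), (9, 56), (10, 55), (10, 54), (3, 53), (10, 52), (5, 51), (7, 50), (7, 49), (7, 48), (8, 47), (5, 46), (5, 45), (6, 44), (4, 43), (6, 42), (3, 41), (8, 40), (8, 39), (8, 38), (3, 37), (3, 36), (4, 35), (3, 34), (4, 33), (2, 32), (2, 31), (2, 30), (1, 29), (2, 28), (2, 27), (1, 26), (1, 25), (2, 24), (1, 23), (0, 0), (0, 1), (0, 2), (0, 3), (0, 4), (0, 5), (0, 6), (0, 7), (0, 8)], 3714⟩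

def mid10_9 : Known := ⟨[(9, 58), (10, 57), (9, 56), (10, 55), (10, 54), (3, 53), (10, 52), (5, 51), (7, 50), (7, 49), (7, 48), (8, 47), (5, 46), (5, 45), (6, 44), (4, 43), (6, 42), (3, 41), (8, 40), (8, 39), (8, 38), (3, 37), (3, 36), (4, 35), (3, 34), (4, 33), (2, 32), (2, 31), (2, 30), (1, 29), (2, 28), (2, 27), (1, 26), (1, 25), (2, 24), (1, 23), (0, 0), (0, 1), (0, 2), (0, 3), (0, 4), (0, 5), (0, 6), (0, 7), (0, 8)], 3739⟩

def mid10_10 : Known := ⟨[(9, 58), (10, 57), (9, 56), (10, 55), (10, 54), (3, 53), (10, 52), (5, 51), (7, 50), (7, 49), (7, 48), (8, 47), (5, 46), (5, 45), (6, 44), (4, 43), (6, 42), (3, 41), (8, 40), (8, 39), (8, 38), (3, 37), (3, 36), (4, 35), (3, 34), (4, 33), (2, 32), (2, 31), (2, 30), (1, 29), (2, 28), (2, 27), (1, 26), (1, 25), (2, 24), (1, 23), (0, 0), (0, 1), (0, 2), (0, 3), (0, 4), (0, 5), (0, 6), (0, 7), (0, 8)], 3764⟩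

def mid10_11 : Known := ⟨[(9, 58), (10, 57), (9, 56), (10, 55), (10, 54), (3, 53), (10, 52), (5, 51), (7, 50), (7, 49), (7, 48), (8, 47), (5, 46), (5, 45), (6, 44), (4, 43), (6, 42), (3, 41), (8, 40), (8, 39), (8, 38), (3, 37), (3, 36), (4, 35), (3, 34), (4, 33), (2, 32), (2, 31), (2, 30), (1, 29), (2, 28), (2, 27), (1, 26), (1, 25), (2, 24), (1, 23), (0, 0), (0, 1), (0, 2), (0, 3), (0, 4), (0, 5), (0, 6), (0, 7), (0, 8)], 3789⟩

def mid10_12 : Known := ⟨[(9, 58), (10, 57), (9, 56), (10, 55), (10, 54), (3, 53), (10, 52), (5, 51), (7, 50), (7, 49), (7, 48), (8, 47), (5, 46), (5, 45), (6, 44), (4, 43), (6, 42), (3, 41), (8, 40), (8, 39), (8, 38), (3, 37), (3, 36), (4, 35), (3, 34), (4, 33), (2, 32), (2, 31), (2, 30), (1, 29), (2, 28), (2, 27), (1, 26), (1, 25), (2, 24), (1, 23), (0, 0), (0, 1), (0, 2), (0, 3), (0, 4), (0, 5), (0, 6), (0, 7), (0, 8)], 3814⟩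

def mid10_13 : Known := ⟨[(9, 58), (10, 57), (9, 56), (10, 55), (10, 54), (3, 53), (10, 52), (5, 51), (7, 50), (7, 49), (7, 48), (8, 47), (5, 46), (5, 45), (6, 44), (4, 43), (6, 42), (3, 41), (8, 40), (8, 39), (8, 38), (3, 37), (3, 36), (4, 35), (3, 34), (4, 33), (2, 32), (2, 31), (2, 30), (1, 29), (2, 28), (2, 27), (1, 26), (1, 25), (2, 24), (1, 23), (0, 0), (0, 1), (0, 2), (0, 3), (0, 4), (0, 5), (0, 6), (0, 7), (0, 8)], 3839⟩

def mid10_14 : Known := ⟨[(9, 58), (10, 57), (9, 56), (10, 55), (10, 54), (3, 53), (10, 52), (5, 51), (7, 50), (7, 49), (7, 48), (8, 47), (5, 46), (5, 45), (6, 44), (4, 43), (6, 42), (3, 41), (8, 40), (8, 39), (8, 38), (3, 37), (3, 36), (4, 35), (3, 34), (4, 33), (2, 32), (2, 31), (2, 30), (1, 29), (2, 28), (2, 27), (1, 26), (1, 25), (2, 24), (1, 23), (0, 0), (0, 1), (0, 2), (0, 3), (0, 4), (0, 5), (0, 6), (0, 7), (0, 8)], 3864⟩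

def known11 : Known := ⟨[(9, 58), (10, 57), (9, 56), (10, 55), (10, 54), (3, 53), (10, 52), (5, 51), (7, 50), (7, 49), (7, 48), (8, 47), (5, 46), (5, 45), (6, 44), (4, 43), (6, 42), (3, 41), (8, 40), (8, 39), (8, 38), (3, 37), (3, 36), (4, 35), (3, 34), (4, 33), (2, 32), (2, 31), (2, 30), (1, 29), (2, 28), (2, 27), (1, 26), (1, 25), (2, 24), (1, 23), (0, 0), (0, 1), (0, 2), (0, 3), (0, 4), (0, 5), (0, 6), (0, 7), (0, 8)], 3868⟩

def mid11_1 : Known := ⟨[(9, 58), (10, 57), (9, 56), (10, 55), (10, 54), (3, 53), (10, 52), (5, 51), (7, 50), (7, 49), (7, 48), (8, 47), (5, 46), (5, 45), (6, 44), (4, 43), (6, 42), (3, 41), (8, 40), (8, 39), (8, 38), (3, 37), (3, 36), (4, 35), (3, 34), (4, 33), (2, 32), (2, 31), (2, 30), (1, 29), (2, 28), (2, 27), (1, 26), (1, 25), (2, 24), (1, 23), (0, 0), (0, 1), (0, 2), (0, 3), (0, 4), (0, 5), (0, 6), (0, 7), (0, 8)], 3893⟩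

def mid11_2 : Known := ⟨[(9, 58), (10, 57), (9, 56), (10, 55), (10, 54), (3, 53), (10, 52), (5, 51), (7, 50), (7, 49), (7, 48), (8, 47), (5, 46), (5, 45), (6, 44), (4, 43), (6, 42), (3, 41), (8, 40), (8, 39), (8, 38), (3, 37), (3, 36), (4, 35), (3, 34), (4, 33), (2, 32), (2, 31), (2, 30), (1, 29), (2, 28), (2, 27), (1, 26), (1, 25), (2, 24), (1, 23), (0, 0), (0, 1), (0, 2), (0, 3), (0, 4), (0, 5), (0, 6), (0, 7), (0, 8)], 3918⟩

def mid11_3 : Known := ⟨[(9, 58), (10, 57), (9, 56), (10, 55), (10, 54), (3, 53), (10, 52), (5, 51), (7, 50), (7, 49), (7, 48), (8, 47), (5, 46), (5, 45), (6, 44), (4, 43), (6, 42), (3, 41), (8, 40), (8, 39), (8, 38), (3, 37), (3, 36), (4, 35), (3, 34), (4, 33), (2, 32), (2, 31), (2, 30), (1, 29), (2, 28), (2, 27), (1, 26), (1, 25), (2, 24), (1, 23), (0, 0), (0, 1), (0, 2), (0, 3), (0, 4), (0, 5), (0, 6), (0, 7), (0, 8)], 3943⟩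

def mid11_4 : Known := ⟨[(9, 58), (10, 57), (9, 56), (10, 55), (10, 54), (3, 53), (10, 52), (5, 51), (7, 50), (7, 49), (7, 48), (8, 47), (5, 46), (5, 45), (6, 44), (4, 43), (6, 42), (3, 41), (8, 40), (8, 39), (8, 38), (3, 37), (3, 36), (4, 35), (3, 34), (4, 33), (2, 32), (2, 31), (2, 30), (1, 29), (2, 28), (2, 27), (1, 26), (1, 25), (2, 24), (1, 23), (0, 0), (0, 1), (0, 2), (0, 3), (0, 4), (0, 5), (0, 6), (0, 7), (0, 8)], 3968⟩

def mid11_5 : Known := ⟨[(9, 58), (10, 57), (9, 56), (10, 55), (10, 54), (3, 53), (10, 52), (5, 51), (7, 50), (7, 49), (7, 48), (8, 47), (5, 46), (5, 45), (6, 44), (4, 43), (6, 42), (3, 41), (8, 40), (8, 39), (8, 38), (3, 37), (3, 36), (4, 35), (3, 34), (4, 33), (2, 32), (2, 31), (2, 30), (1, 29), (2, 28), (2, 27), (1, 26), (1, 25), (2, 24), (1, 23), (0, 0), (0, 1), (0, 2), (0, 3), (0, 4), (0, 5), (0, 6), (0, 7), (0, 8)], 3993⟩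

def mid11_6 : Known := ⟨[(9, 58), (10, 57), (9, 56), (10, 55), (10, 54), (3, 53), (10, 52), (5, 51), (7, 50), (7, 49), (7, 48), (8, 47), (5, 46), (5, 45), (6, 44), (4, 43), (6, 42), (3, 41), (8, 40), (8, 39), (8, 38), (3, 37), (3, 36), (4, 35), (3, 34), (4, 33), (2, 32), (2, 31), (2, 30), (1, 29), (2, 28), (2, 27), (1, 26), (1, 25), (2, 24), (1, 23), (0, 0), (0, 1), (0, 2), (0, 3), (0, 4), (0, 5), (0, 6), (0, 7), (0, 8)], 4018⟩

def mid11_7 : Known := ⟨[(9, 58), (10, 57), (9, 56), (10, 55), (10, 54), (3, 53), (10, 52), (5, 51), (7, 50), (7, 49), (7, 48), (8, 47), (5, 46), (5, 45), (6, 44), (4, 43), (6, 42), (3, 41), (8, 40), (8, 39), (8, 38), (3, 37), (3, 36), (4, 35), (3, 34), (4, 33), (2, 32), (2, 31), (2, 30), (1, 29), (2, 28), (2, 27), (1, 26), (1, 25), (2, 24), (1, 23), (0, 0), (0, 1), (0, 2), (0, 3), (0, 4), (0, 5), (0, 6), (0, 7), (0, 8)], 4043⟩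

def mid11_8 : Known := ⟨[(9, 58), (10, 57), (9, 56), (10, 55), (10, 54), (3, 53), (10, 52), (5, 51), (7, 50), (7, 49), (7, 48), (8, 47), (5, 46), (5, 45), (6, 44), (4, 43), (6, 42), (3, 41), (8, 40), (8, 39), (8, 38), (3, 37), (3, 36), (4, 35), (3, 34), (4, 33), (2, 32), (2, 31), (2, 30), (1, 29), (2, 28), (2, 27), (1, 26), (1, 25), (2, 24), (1, 23), (0, 0), (0, 1), (0, 2), (0, 3), (0, 4), (0, 5), (0, 6), (0, 7), (0, 8)], 4068⟩

def mid11_9 : Known := ⟨[(9, 58), (10, 57), (9, 56), (10, 55), (10, 54), (3, 53), (10, 52), (5, 51), (7, 50), (7, 49), (7, 48), (8, 47), (5, 46), (5, 45), (6, 44), (4, 43), (6, 42), (3, 41), (8, 40), (8, 39), (8, 38), (3, 37), (3, 36), (4, 35), (3, 34), (4, 33), (2, 32), (2, 31), (2, 30), (1, 29), (2, 28), (2, 27), (1, 26), (1, 25), (2, 24), (1, 23), (0, 0), (0, 1), (0, 2), (0, 3), (0, 4), (0, 5), (0, 6), (0, 7), (0, 8)], 4093⟩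

def mid11_10 : Known := ⟨[(9, 58), (10, 57), (9, 56), (10, 55), (10, 54), (3, 53), (10, 52), (5, 51), (7, 50), (7, 49), (7, 48), (8, 47), (5, 46), (5, 45), (6, 44), (4, 43), (6, 42), (3, 41), (8, 40), (8, 39), (8, 38), (3, 37), (3, 36), (4, 35), (3, 34), (4, 33), (2, 32), (2, 31), (2, 30), (1, 29), (2, 28), (2, 27), (1, 26), (1, 25), (2, 24), (1, 23), (0, 0), (0, 1), (0, 2), (0, 3), (0, 4), (0, 5), (0, 6), (0, 7), (0, 8)], 4118⟩

def mid11_11 : Known := ⟨[(9, 58), (10, 57), (9, 56), (10, 55), (10, 54), (3, 53), (10, 52), (5, 51), (7, 50), (7, 49), (7, 48), (8, 47), (5, 46), (5, 45), (6, 44), (4, 43), (6, 42), (3, 41), (8, 40), (8, 39), (8, 38), (3, 37), (3, 36), (4, 35), (3, 34), (4, 33), (2, 32), (2, 31), (2, 30), (1, 29), (2, 28), (2, 27), (1, 26), (1, 25), (2, 24), (1, 23), (0, 0), (0, 1), (0, 2), (0, 3), (0, 4), (0, 5), (0, 6), (0, 7), (0, 8)], 4143⟩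

def mid11_12 : Known := ⟨[(9, 58), (10, 57), (9, 56), (10, 55), (10, 54), (3, 53), (10, 52), (5, 51), (7, 50), (7, 49), (7, 48), (8, 47), (5, 46), (5, 45), (6, 44), (4, 43), (6, 42), (3, 41), (8, 40), (8, 39), (8, 38), (3, 37), (3, 36), (4, 35), (3, 34), (4, 33), (2, 32), (2, 31), (2, 30), (1, 29), (2, 28), (2, 27), (1, 26), (1, 25), (2, 24), (1, 23), (0, 0), (0, 1), (0, 2), (0, 3), (0, 4), (0, 5), (0, 6), (0, 7), (0, 8)], 4168⟩

def mid11_13 : Known := ⟨[(9, 58), (10, 57), (9, 56), (10, 55), (10, 54), (3, 53), (10, 52), (5, 51), (7, 50), (7, 49), (7, 48), (8, 47), (5, 46), (5, 45), (6, 44), (4, 43), (6, 42), (3, 41), (8, 40), (8, 39), (8, 38), (3, 37), (3, 36), (4, 35), (3, 34), (4, 33), (2, 32), (2, 31), (2, 30), (1, 29), (2, 28), (2, 27), (1, 26), (1, 25), (2, 24), (1, 23), (0, 0), (0, 1), (0, 2), (0, 3), (0, 4), (0, 5), (0, 6), (0, 7), (0, 8)], 4193⟩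

def known12 : Known := ⟨[(9, 58), (10, 57), (9, 56), (10, 55), (10, 54), (3, 53), (10, 52), (5, 51), (7, 50), (7, 49), (7, 48), (8, 47), (5, 46), (5, 45), (6, 44), (4, 43), (6, 42), (3, 41), (8, 40), (8, 39), (8, 38), (3, 37), (3, 36), (4, 35), (3, 34), (4, 33), (2, 32), (2, 31), (2, 30), (1, 29), (2, 28), (2, 27), (1, 26), (1, 25), (2, 24), (1, 23), (0, 0), (0, 1), (0, 2), (0, 3), (0, 4), (0, 5), (0, 6), (0, 7), (0, 8)], 4216⟩

end H91.Th.Data
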