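import Mathlib

/-! The relator paths and where they come from (generated data). -/

set_option autoImplicit false
set_option maxRecDepth 100000
set_option linter.all false

namespace H91.Th.Data

def relTab : List (List ℕ) := [
  [0, 0, 4, 2],
  [0, 4, 2, 0],
  [4, 2, 0, 0],
  [7, 0, 7, 4, 2, 0, 7, 0],
  [0, 7, 0, 7, 4, 2, 0, 7],
  [0, 7, 4, 2, 0, 7, 0, 7],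
  [7, 0, 7, 0, 7, 4, 2, 0],
  [7, 4, 2, 0, 7, 0, 7, 0],
  [6, 3, 2, 4, 3, 5, 0, 5, 6, 4, 3, 4, 2, 3, 5, 1, 5, 3, 2, 4, 3, 5, 0, 5, 0],
  [5, 0, 5, 6, 1, 5, 0, 5, 6, 1],
  [5, 6, 1, 5, 0, 5, 6, 1, 5, 0],
  [0, 9, 1, 9],
  [1, 9, 0, 9],
  [0, 5, 6, 4, 3, 4, 2, 3, 5, 1, 5, 3, 2, 4, 3, 5, 0, 5, 0, 6, 3, 2, 4, 3, 5],
  [0, 6, 5, 1, 5, 0, 6, 5, 1, 5],
  [0, 5, 3, 2, 4, 3, 4, 6, 5, 1, 5, 3, 4, 2, 3, 6, 1, 5, 1, 5, 3, 4, 2, 3, 5],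
  [1, 5, 3, 2, 4, 3, 5, 0, 5, 0, 6, 3, 2, 4, 3, 5, 0, 5, 6, 4, 3, 4, 2, 3, 5],
  [9, 0, 9, 1],
  [5, 3, 4, 2, 3, 6, 1, 5, 1, 5, 3, 4, 2, 3, 5, 0, 5, 3, 2, 4, 3, 4, 6, 5, 1],
  [1, 5, 0, 6, 5, 1, 5, 0, 6, 5],
  [7, 7, 5, 8, 8, 0, 7, 7, 5, 8, 8, 0, 7, 7, 8, 8, 6, 5, 4, 5, 6, 7, 7, 7, 6, 5, 4, 5, 6, 8, 5, 4, 5, 4, 2, 5, 8, 8, 0, 7, 7, 5, 8, 8, 0],
  [7, 7, 8, 8, 6, 5, 4, 5, 6, 7, 7, 7, 6, 5, 4, 5, 6, 8, 5, 4, 5, 4, 2, 5, 8, 8, 0, 7, 7, 5, 8, 8, 0, 7, 7, 5, 8, 8, 0, 7, 7, 5, 8, 8, 0],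
  [0, 4, 1, 4],
  [5, 3, 2, 4, 3, 5, 0, 5, 0, 6, 3, 2, 4, 3, 5, 0, 5, 6, 4, 3, 4, 2, 3, 5, 1],
  [0, 6, 3, 2, 4, 3, 5, 0, 5, 6, 4, 3, 4, 2, 3, 5, 1, 5, 3, 2, 4, 3, 5, 0, 5],
  [6, 5, 1, 5, 0, 6, 5, 1, 5, 0],
  [6, 1, 6, 0],
  [0, 7, 1, 8, 0, 7, 1, 8, 0, 7, 1, 8, 0, 7, 4, 2, 1, 8],
  [0, 5, 6, 1, 5, 0, 5, 6, 1, 5],
  [5, 6, 4, 3, 4, 2, 3, 5, 1, 5, 3, 2, 4, 3, 5, 0, 5, 0, 6, 3, 2, 4, 3, 5, 0],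
  [5, 0, 6, 5, 1, 5, 0, 6, 5, 1],
  [1, 7, 7, 5, 8, 8, 1, 7, 7, 5, 8, 8, 1, 7, 7, 5, 8, 8, 1, 7, 7, 5, 2, 4, 5, 4, 5, 7, 6, 5, 4, 5, 6, 8, 8, 8, 6, 5, 4, 5, 6, 7, 7, 8, 8],
  [1, 5, 0, 5, 6, 1, 5, 0, 5, 6],
  [0, 7, 7, 6, 8, 8, 1, 7, 7, 6, 8, 8],
  [5, 1, 5, 3, 4, 2, 3, 5, 0, 5, 3, 2, 4, 3, 4, 6, 5, 1, 5, 3, 4, 2, 3, 6, 1],
  [5, 3, 2, 4, 3, 4, 6, 5, 1, 5, 3, 4, 2, 3, 6, 1, 5, 1, 5, 3, 4, 2, 3, 5, 0],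
  [10, 0, 10, 1],
  [1, 5, 0, 6, 5, 1, 5, 0, 6, 5],
  [2, 1, 2, 0],
  [0, 2, 1, 2],
  [8, 0, 7, 1, 8, 0, 7, 1, 8, 0, 7, 1, 8, 0, 7, 4, 2, 1],
  [2, 4, 8, 1, 7, 0, 8, 1, 7, 0, 8, 1, 7, 0, 8, 1, 7, 0],
  [1, 2, 4, 8, 1, 8, 1, 8],
  [0, 7, 0, 7, 0, 7, 4, 2],
  [5, 0, 6, 3, 2, 4, 3, 5, 0, 5, 6, 4, 3, 4, 2, 3, 5, 1, 5, 3, 2, 4, 3, 5, 0],
  [0, 6, 8, 6, 8, 5, 4, 5, 6, 7, 5, 4, 5, 6, 7, 7, 5, 4, 5, 6, 8, 4, 1, 5, 4, 5],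
  [8, 1, 7, 0, 2, 4, 8, 1, 7, 0, 8, 1, 7, 0, 8, 1, 7, 0],
  [1, 7, 0, 2, 4, 8, 1, 7, 0, 8, 1, 7, 0, 8, 1, 7, 0, 8],
  [0, 7, 1, 8, 0, 7, 4, 2, 1, 8, 0, 7, 1, 8, 0, 7, 1, 8],
  [8, 0, 7, 4, 2, 1, 8, 0, 7, 1, 8, 0, 7, 1, 8, 0, 7, 1],
  [0, 2, 4, 8, 1, 7, 0, 8, 1, 7, 0, 8, 1, 7, 0, 8, 1, 7],
  [0, 7, 7, 5, 8, 8, 0, 7, 7, 5, 8, 8, 0, 7, 7, 5, 8, 8, 0, 7, 7, 8, 8, 6, 5, 4, 5, 6, 7, 7, 7, 6, 5, 4, 5, 6, 8, 5, 4, 5, 4, 2, 5, 8, 8],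
  [1, 5, 3, 4, 2, 3, 6, 1, 5, 1, 5, 3, 4, 2, 3, 5, 0, 5, 3, 2, 4, 3, 4, 6, 5],
  [7, 0, 2, 4, 8, 1, 7, 0, 8, 1, 7, 0, 8, 1, 7, 0, 8, 1],
  [0, 7, 7, 8, 8, 6, 5, 4, 5, 6, 7, 7, 7, 6, 5, 4, 5, 6, 8, 5, 4, 5, 4, 2, 5, 8, 8, 0, 7, 7, 5, 8, 8, 0, 7, 7, 5, 8, 8, 0, 7, 7, 5, 8, 8],
  [0, 5, 0, 6, 3, 2, 4, 3, 5, 0, 5, 6, 4, 3, 4, 2, 3, 5, 1, 5, 3, 2, 4, 3, 5],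
  [0, 5, 6, 1, 5, 0, 5, 6, 1, 5],
  [4, 0, 4, 1],
  [7, 7, 5, 8, 8, 0, 7, 7, 5, 8, 8, 0, 7, 7, 5, 8, 8, 0, 7, 7, 8, 8, 6, 5, 4, 5, 6, 7, 7, 7, 6, 5, 4, 5, 6, 8, 5, 4, 5, 4, 2, 5, 8, 8, 0],
  [5, 0, 5, 6, 1, 5, 0, 5, 6, 1],
  [5, 6, 1, 5, 0, 5, 6, 1, 5, 0],
  [1, 5, 1, 5, 3, 4, 2, 3, 5, 0, 5, 3, 2, 4, 3, 4, 6, 5, 1, 5, 3, 4, 2, 3, 6],
  [0, 7, 7, 5, 8, 8, 0, 7, 7, 8, 8, 6, 5, 4, 5, 6, 7, 7, 7, 6, 5, 4, 5, 6, 8, 5, 4, 5, 4, 2, 5, 8, 8, 0, 7, 7, 5, 8, 8, 0, 7, 7, 5, 8, 8],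
  [1, 0],
  [1, 5, 3, 4, 2, 3, 5, 0, 5, 3, 2, 4, 3, 4, 6, 5, 1, 5, 3, 4, 2, 3, 6, 1, 5],
  [5, 0, 6, 5, 1, 5, 0, 6, 5, 1],
  [0, 6, 5, 1, 5, 0, 6, 5, 1, 5],
  [0, 7, 7, 5, 8, 8, 0, 7, 7, 5, 8, 8, 0, 7, 7, 8, 8, 6, 5, 4, 5, 6, 7, 7, 7, 6, 5, 4, 5, 6, 8, 5, 4, 5, 4, 2, 5, 8, 8, 0, 7, 7, 5, 8, 8],
  [7, 0, 8, 1, 7, 0, 8, 1, 7, 0, 8, 1, 7, 0, 2, 4, 8, 1],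
  [8, 0, 7, 1, 8, 0, 7, 1, 8, 0, 7, 4, 2, 1, 8, 0, 7, 1],
  [1, 7, 0, 8, 1, 7, 0, 8, 1, 7, 0, 8, 1, 7, 0, 2, 4, 8],
  [0, 8, 1, 7, 0, 2, 4, 8, 1, 7, 0, 8, 1, 7, 0, 8, 1, 7],
  [7, 7, 5, 8, 8, 0, 7, 7, 8, 8, 6, 5, 4, 5, 6, 7, 7, 7, 6, 5, 4, 5, 6, 8, 5, 4, 5, 4, 2, 5, 8, 8, 0, 7, 7, 5, 8, 8, 0, 7, 7, 5, 8, 8, 0],
  [8, 0, 7, 1, 8, 0, 7, 4, 2, 1, 8, 0, 7, 1, 8, 0, 7, 1],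
  [6, 5, 1, 5, 0, 6, 5, 1, 5, 0],
  [1, 8, 0, 7, 1, 8, 0, 7, 4, 2, 1, 8, 0, 7, 1, 8, 0, 7],
  [1, 7, 0, 8, 1, 7, 0, 8, 1, 7, 0, 2, 4, 8, 1, 7, 0, 8],
  [1, 8, 0, 7, 1, 8, 0, 7, 1, 8, 0, 7, 1, 8, 0, 7, 4, 2],
  [1, 7, 0, 8, 1, 7, 0, 2, 4, 8, 1, 7, 0, 8, 1, 7, 0, 8],
  [1, 5, 0, 5, 6, 1, 5, 0, 5, 6],
  [7, 1, 8, 0, 7, 1, 8, 0, 7, 1, 8, 0, 7, 4, 2, 1, 8, 0],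
  [7, 1, 8, 0, 7, 1, 8, 0, 7, 4, 2, 1, 8, 0, 7, 1, 8, 0],
  [0, 8, 1, 7, 0, 8, 1, 7, 0, 2, 4, 8, 1, 7, 0, 8, 1, 7],
  [1, 8, 0, 7, 1, 8, 0, 7, 1, 8, 0, 7, 4, 2, 1, 8, 0, 7],
  [1, 8, 0, 7, 4, 2, 1, 8, 0, 7, 1, 8, 0, 7, 1, 8, 0, 7],
  [7, 1, 8, 0, 7, 4, 2, 1, 8, 0, 7, 1, 8, 0, 7, 1, 8, 0],
  [5, 3, 4, 2, 3, 5, 0, 5, 3, 2, 4, 3, 4, 6, 5, 1, 5, 3, 4, 2, 3, 6, 1, 5, 1],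
  [7, 0, 8, 1, 7, 0, 8, 1, 7, 0, 2, 4, 8, 1, 7, 0, 8, 1],
  [8, 1, 7, 0, 8, 1, 7, 0, 2, 4, 8, 1, 7, 0, 8, 1, 7, 0],
  [0, 7, 4, 2, 1, 8, 0, 7, 1, 8, 0, 7, 1, 8, 0, 7, 1, 8],
  [0, 1],
  [7, 4, 2, 1, 8, 0, 7, 1, 8, 0, 7, 1, 8, 0, 7, 1, 8, 0],
  [0, 8, 1, 7, 0, 8, 1, 7, 0, 8, 1, 7, 0, 2, 4, 8, 1, 7],
  [7, 0, 8, 1, 7, 0, 2, 4, 8, 1, 7, 0, 8, 1, 7, 0, 8, 1],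
  [8, 1, 7, 0, 8, 1, 7, 0, 8, 1, 7, 0, 2, 4, 8, 1, 7, 0],
  [0, 7, 1, 8, 0, 7, 1, 8, 0, 7, 4, 2, 1, 8, 0, 7, 1, 8]]

/-- number of the relator, start, and whether it is inverted -/
def relSrc : List (ℕ × ℕ × Bool) := [(0, 0, false), (0, 1, false), (0, 2, false), (9, 3, true), (9, 2, true), (9, 4, true), (9, 1, true), (9, 5, true), (6, 1, true), (4, 3, false), (4, 0, false), (15, 1, false), (15, 3, false), (6, 7, true), (4, 7, true), (6, 8, false), (6, 16, true), (15, 0, false), (6, 18, false), (4, 5, true), (11, 10, false), (11, 22, false), (13, 1, false), (6, 17, true), (6, 0, true), (4, 3, true), (14, 1, true), (10, 2, true), (4, 9, false), (6, 8, true), (4, 6, true), (11, 23, true), (4, 2, false),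 (8, 9, false), (6, 0, false), (6, 9, false), (15, 3, true), (4, 0, true), (12, 2, false), (1, 3, true), (10, 1, true), (10, 0, false), (9, 7, false), (9, 0, true), (6, 24, true), (18, 3, false), (10, 14, false), (10, 15, false), (10, 10, true), (10, 13, true), (10, 17, false), (11, 3, false), (6, 17, false), (10, 16, false), (11, 21, false), (6, 23, true), (4, 4, false), (13, 3, true), (11, 4, false), (4, 8, false), (4, 5, false), (6, 24, false), (11, 15, false), (19, 1, true), (6, 1, false), (4, 1, true), (4, 2, true), (11, 9, false), (10, 4, false), (10, 5, true), (10, 3, false), (10, 13, false), (11, 16, false), (10, 9, true), (4, 8, true), (10, 8, true), (10, 7, false), (10, 0, true), (10, 11,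 false), (4, 7, false), (10, 3, true), (10, 7, true), (10, 9, false), (10, 4, true), (10, 12, true), (10, 11, true), (6, 2, false), (10, 8, false), (10, 10, false), (10, 14, true), (19, 0, false), (10, 15, true), (10, 5, false), (10, 12, false), (10, 6, false), (10, 6, true)]

/-- the 12 relators, the 7 twist relations and the trivial relation -/
def origTab : List (List ℕ) := [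
  [0, 0, 4, 2],
  [1, 2, 0, 2],
  [1, 4, 0, 4],
  [1, 6, 0, 6],
  [5, 6, 1, 5, 0, 5, 6, 1, 5, 0],
  [1, 3, 4, 2, 3, 0, 3, 2, 4, 3, 6],
  [5, 1, 5, 3, 4, 2, 3, 5, 0, 5, 3, 2, 4, 3, 4, 6, 5, 1, 5, 3, 4, 2, 3, 6, 1],
  [1, 9, 0, 9],
  [6, 8, 8, 1, 7, 7, 6, 8, 8, 0, 7, 7],
  [2, 4, 8, 1, 8, 1, 8, 1],
  [2, 4, 8, 1, 7, 0, 8, 1, 7, 0, 8, 1, 7, 0, 8, 1, 7, 0],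
  [5, 8, 8, 0, 7, 7, 5, 8, 8, 0, 7, 7, 5, 8, 8, 0, 7, 7, 5, 8, 8, 0, 7, 7, 8, 8, 6, 5, 4, 5, 6, 7, 7, 7, 6, 5, 4, 5, 6, 8, 5, 4, 5, 4, 2],
  [2, 0, 2, 1],
  [4, 0, 4, 1],
  [6, 0, 6, 1],
  [9, 0, 9, 1],
  [3, 2, 4, 3, 0, 6, 3, 4, 2, 3, 1],
  [7, 7, 6, 8, 8, 0, 7, 7, 6, 8, 8, 1],
  [5, 4, 5, 0, 6, 8, 6, 8, 5, 4, 5, 6, 7, 5, 4, 5, 6, 7, 7, 5, 4, 5, 6, 8, 4, 1],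
  [0, 1]]

end H91.Th.Data
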