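import Mathlib

/-! Words of the letters, the base, the stabiliser letters (generated data). -/

set_option autoImplicit false
set_option maxRecDepth 100000
set_option linter.all false

namespace H91.Th.Data

/-- the basic word of a letter -/
noncomputable def wordOf (l : ℕ) : List ℕ :=
  bif Nat.blt l 59 then
  (bif Nat.blt l 29 then (bif Nat.blt l 14 then (bif Nat.blt l 7 then (bif Nat.blt l 3 then (bif Nat.blt l 1 then ([0] : List ℕ) else (bif Nat.blt l 2 then ([1] : List ℕ) else ([2] : List ℕ))) else (bif Nat.blt l 5 then (bif Nat.blt l 4 then ([3] : List ℕ) else ([4] : List ℕ)) else (bif Nat.blt l 6 then ([5] : List ℕ) else ([6] : List ℕ)))) else (bif Nat.blt l 10 then (bif Nat.blt l 8 then ([7] : List ℕ)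 else (bif Nat.blt l 9 then ([8] : List ℕ) else ([0] : List ℕ))) else (bif Nat.blt l 12 then (bif Nat.blt l 11 then ([2] : List ℕ) else ([4] : List ℕ)) else (bif Nat.blt l 13 then ([7] : List ℕ) else ([1, 0, 2, 1] : List ℕ))))) else (bif Nat.blt l 21 then (bif Nat.blt l 17 then (bif Nat.blt l 15 then ([5, 5, 4, 6, 6] : List ℕ) else (bif Nat.blt l 16 then ([3, 2, 3] : List ℕ) else ([0] : List ℕ))) else (bif Nat.blt l 19 then (bif Nat.blt l 18 then ([2] : List ℕ) else ([4] : List ℕ)) else (bif Nat.blt l 20 then ([8] : List ℕ) else ([1, 0, 2, 1, 4] : List ℕ)))) else (bif Nat.blt l 25 then (bif Nat.blt l 23 then (bif Nat.blt l 22 then ([5, 5, 4, 6, 6] : List ℕ) else ([2, 5, 4, 3, 2, 3, 6, 6, 4, 3, 2, 3, 6, 4, 3, 2,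 3, 5, 4, 5, 4] : List ℕ)) else (bif Nat.blt l 24 then ([3, 2, 3, 4, 8, 5, 4, 3, 2, 3, 6] : List ℕ) else ([3, 4, 3, 2, 5, 4, 3, 2, 3, 6, 4, 3, 2, 5, 4, 3, 2, 6] : List ℕ))) else (bif Nat.blt l 27 then (bif Nat.blt l 26 then ([3, 2, 6, 4, 3, 2, 5, 4, 3, 2, 6, 4, 3, 2, 5, 4, 3, 5, 4, 6, 6, 1, 0, 2, 1] : List ℕ) else ([3, 2, 3, 7, 6, 4, 3, 2, 3, 6, 4, 3, 2, 3, 5, 4, 5, 8, 1, 0, 2, 1, 3, 2, 3] : List ℕ)) else (bif Nat.blt l 28 then ([2, 6, 6, 4, 3, 2, 5, 4, 3, 2, 5, 4, 3, 2, 6, 6, 4, 5] : List ℕ) else ([2, 6, 6, 4, 3, 2, 6, 4, 3, 2, 3, 6, 4, 3, 2, 6, 4, 3, 2, 6, 6] : List ℕ)))))) else (bif Nat.blt l 44 then (bif Nat.blt l 36 then (bif Nat.blt l 32 then (bif Nat.blt l 30 then ([2, 3, 4, 3, 2, 6, 4, 3, 2, 3, 5, 4, 3,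 2, 3, 6, 4, 3, 6, 1, 0, 2, 1, 3, 2, 3] : List ℕ) else (bif Nat.blt l 31 then ([3, 2, 4, 3, 7, 6, 4, 3, 2, 3, 4] : List ℕ) else ([0, 6, 4, 3, 2, 5, 4, 3, 2, 6, 6, 4, 3, 2, 5, 4, 3, 2, 6, 4, 7] : List ℕ))) else (bif Nat.blt l 34 then (bif Nat.blt l 33 then ([0, 6, 4, 3, 2, 5, 4, 3, 2, 6, 4, 3, 2, 5, 4, 3, 2, 6, 4, 8, 6] : List ℕ) else ([3, 2, 3, 5, 4, 3, 2, 5, 4, 3, 2, 5, 4, 3, 6, 4, 8, 5, 1, 2, 3, 2, 4, 3, 2, 6, 4, 3, 7, 6] : List ℕ)) else (bif Nat.blt l 35 then ([2, 5, 4, 3, 2, 3, 6, 6, 4, 3, 2, 3, 6, 4, 3, 2, 3, 5, 4, 5, 1, 0, 2, 1] : List ℕ) else ([2, 3, 7, 6, 4, 3, 2, 6, 4, 3, 2, 6, 4, 3, 2, 8, 5, 4, 3, 1, 0, 2, 3, 2, 1, 4, 3, 2, 1, 0, 5, 5] : List ℕ)))) else (bif Nat.blt l 40 then (bif Nat.blt l 38 then (bif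 Nat.blt l 37 then ([2, 6, 4, 3, 2, 3, 6, 4, 3, 2, 3, 5, 4, 3, 2, 3, 6, 4, 3, 2, 8, 6, 1, 2, 3, 2, 1, 0, 4] : List ℕ) else ([6, 4, 3, 2, 3, 2, 7, 5, 4, 3, 2, 3, 6, 4, 3, 2, 3, 5, 4, 3, 2, 6, 1, 2, 3, 2, 1, 0, 4] : List ℕ)) else (bif Nat.blt l 39 then ([0, 3, 6, 4, 3, 2, 3, 6, 4, 3, 2, 3, 5, 4, 3, 2, 3, 6, 4, 6, 8, 1, 0, 2, 1, 3] : List ℕ) else ([2, 7, 6, 4, 3, 2, 6, 4, 3, 2, 5, 4, 3, 2, 5, 4, 6, 6, 4] : List ℕ))) else (bif Nat.blt l 42 then (bif Nat.blt l 41 then ([6, 6, 4, 3, 2, 3, 2, 6, 4, 3, 2, 5, 4, 3, 6, 4, 3, 1, 0, 2, 3, 2, 1, 0, 4, 3, 5, 5] : List ℕ) else ([2, 3, 2, 6, 4, 3, 2, 3, 6, 4, 3, 2, 3, 5, 4, 3, 2, 3, 6, 4, 8, 5, 1, 2, 3, 2, 1, 4, 3, 2, 1] : List ℕ)) else (bif Nat.blt l 43 then ([4, 1, 0, 2, 1]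 : List ℕ) else ([2, 3, 2, 3, 6, 4, 3, 2, 6, 4, 3, 2, 7, 5, 4, 3, 2, 5, 1, 0, 2, 1, 3, 2, 4, 5] : List ℕ))))) else (bif Nat.blt l 51 then (bif Nat.blt l 47 then (bif Nat.blt l 45 then ([2, 3, 2, 3, 6, 4, 3, 2, 3, 4, 6, 4, 3, 2, 3, 4, 5, 5] : List ℕ) else (bif Nat.blt l 46 then ([2, 4, 3, 2, 3, 5, 4, 3, 2, 3, 6, 4, 3, 2, 3, 5, 5, 4, 6, 6, 1, 0, 2, 1, 3, 2, 3] : List ℕ) else ([0, 2, 4, 1, 0, 2, 1] : List ℕ))) else (bif Nat.blt l 49 then (bif Nat.blt l 48 then ([2, 4, 3, 5, 4, 3, 2, 3, 2, 7, 5, 4, 3, 6, 4, 3, 2] : List ℕ) else ([3, 2, 5, 4, 5, 4, 3, 2, 6, 4, 3, 2, 6, 4, 6, 7, 1, 0, 2, 3, 2, 1, 0, 4, 3, 2, 1, 6, 6] : List ℕ)) else (bif Nat.blt l 50 then ([0, 3, 6, 4, 3, 2, 3, 5, 4, 3, 2, 5, 4, 3, 2, 5, 4, 3, 1, 0,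 2, 1, 3, 4, 5, 4] : List ℕ) else ([2, 6, 4, 5, 1, 2] : List ℕ)))) else (bif Nat.blt l 55 then (bif Nat.blt l 53 then (bif Nat.blt l 52 then ([0, 7, 6, 4, 3, 2, 5, 4, 3, 2, 7, 5, 4, 6, 1, 0, 2, 1, 3, 2, 1, 3, 0] : List ℕ) else ([3, 2, 4, 5, 4, 3, 2, 3, 5, 4, 3, 2, 3, 4, 5, 4, 8, 1, 2, 3, 2, 4, 3, 2, 6, 4, 6, 4, 3] : List ℕ)) else (bif Nat.blt l 54 then ([2, 8, 6, 4, 3, 2, 6, 4, 3, 2, 5, 4, 3, 5, 7, 1, 0, 2, 3, 2, 4, 3, 2, 5, 4, 6] : List ℕ) else ([0, 4, 5, 4, 3, 2, 6, 4, 3, 2, 6, 4, 3, 2, 6, 6, 4, 3, 2, 6, 4, 1, 0, 2, 3, 2, 1, 4, 3, 2, 6, 4, 8] : List ℕ))) else (bif Nat.blt l 57 then (bif Nat.blt l 56 then ([2, 3, 4, 5, 4, 3, 2, 3, 4, 8, 6, 4, 3, 2, 3, 4, 6, 8, 1, 2, 3, 2, 4, 3, 2, 6, 4, 5, 8] : List ℕ) else ([3,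 2, 3, 4, 6, 4, 3, 2, 3, 4, 8, 5, 4, 3, 2, 3, 4, 5, 1, 2, 3, 2, 1, 4, 3, 2, 3, 5] : List ℕ)) else (bif Nat.blt l 58 then ([2, 3, 2, 3, 6, 4, 3, 2, 6, 4, 3, 2, 6, 6, 4, 3, 6, 4, 1, 0, 2, 1, 3, 2, 4, 6, 6] : List ℕ) else ([2, 5, 4, 3, 2, 3, 6, 6, 4, 3, 2, 3, 5, 4, 3, 2, 3, 6, 8, 1, 2, 3, 2, 1, 4, 3, 2, 1, 3, 0, 5, 8] : List ℕ)))))))
  else [l]

def wordList : List (List ℕ) := [[0],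
  [1],
  [2],
  [3],
  [4],
  [5],
  [6],
  [7],
  [8],
  [0],
  [2],
  [4],
  [7],
  [1, 0, 2, 1],
  [5, 5, 4, 6, 6],
  [3, 2, 3],
  [0],
  [2],
  [4],
  [8],
  [1, 0, 2, 1, 4],
  [5, 5, 4, 6, 6],
  [2, 5, 4, 3, 2, 3, 6, 6, 4, 3, 2, 3, 6, 4, 3, 2, 3, 5, 4, 5, 4],
  [3, 2, 3, 4, 8, 5, 4, 3, 2, 3, 6],
  [3, 4, 3, 2, 5, 4, 3, 2, 3, 6, 4, 3, 2, 5, 4, 3, 2, 6],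
  [3, 2, 6, 4, 3, 2, 5, 4, 3, 2, 6, 4, 3, 2, 5, 4, 3, 5, 4, 6, 6, 1, 0, 2, 1],
  [3, 2, 3, 7, 6, 4, 3, 2, 3, 6, 4, 3, 2, 3, 5, 4, 5, 8, 1, 0, 2, 1, 3, 2, 3],
  [2, 6, 6, 4, 3, 2, 5, 4, 3, 2, 5, 4, 3, 2, 6, 6, 4, 5],
  [2, 6, 6, 4, 3, 2, 6, 4, 3, 2, 3, 6, 4, 3, 2, 6, 4, 3, 2, 6, 6],
  [2, 3, 4, 3, 2, 6, 4, 3, 2, 3, 5, 4, 3, 2, 3, 6, 4, 3, 6, 1, 0, 2, 1, 3, 2, 3],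
  [3, 2, 4, 3, 7, 6, 4, 3, 2, 3, 4],
  [0, 6, 4, 3, 2, 5, 4, 3, 2, 6, 6, 4, 3, 2, 5, 4, 3, 2, 6, 4, 7],
  [0, 6, 4, 3, 2, 5, 4, 3, 2, 6, 4, 3, 2, 5, 4, 3, 2, 6, 4, 8, 6],
  [3, 2, 3, 5, 4, 3, 2, 5, 4, 3, 2, 5, 4, 3, 6, 4, 8, 5, 1, 2, 3, 2, 4, 3, 2, 6, 4, 3, 7, 6],
  [2, 5, 4, 3, 2, 3, 6, 6, 4, 3, 2, 3, 6, 4, 3, 2, 3, 5, 4, 5, 1, 0, 2, 1],
  [2, 3, 7, 6, 4, 3, 2, 6, 4, 3, 2, 6, 4, 3, 2, 8, 5, 4, 3, 1, 0, 2, 3, 2, 1, 4, 3, 2, 1, 0, 5, 5],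
  [2, 6, 4, 3, 2, 3, 6, 4, 3, 2, 3, 5, 4, 3, 2, 3, 6, 4, 3, 2, 8, 6, 1, 2, 3, 2, 1, 0, 4],
  [6, 4, 3, 2, 3, 2, 7, 5, 4, 3, 2, 3, 6, 4, 3, 2, 3, 5, 4, 3, 2, 6, 1, 2, 3, 2, 1, 0, 4],
  [0, 3, 6, 4, 3, 2, 3, 6, 4, 3, 2, 3, 5, 4, 3, 2, 3, 6, 4, 6, 8, 1, 0, 2, 1, 3],
  [2, 7, 6, 4, 3, 2, 6, 4, 3, 2, 5, 4, 3, 2, 5, 4, 6, 6, 4],
  [6, 6, 4, 3, 2, 3, 2, 6, 4, 3, 2, 5, 4, 3, 6, 4, 3, 1, 0, 2, 3, 2, 1, 0, 4, 3, 5, 5],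
  [2, 3, 2, 6, 4, 3, 2, 3, 6, 4, 3, 2, 3, 5, 4, 3, 2, 3, 6, 4, 8, 5, 1, 2, 3, 2, 1, 4, 3, 2, 1],
  [4, 1, 0, 2, 1],
  [2, 3, 2, 3, 6, 4, 3, 2, 6, 4, 3, 2, 7, 5, 4, 3, 2, 5, 1, 0, 2, 1, 3, 2, 4, 5],
  [2, 3, 2, 3, 6, 4, 3, 2, 3, 4, 6, 4, 3, 2, 3, 4, 5, 5],
  [2, 4, 3, 2, 3, 5, 4, 3, 2, 3, 6, 4, 3, 2, 3, 5, 5, 4, 6, 6, 1, 0, 2, 1, 3, 2, 3],
  [0, 2, 4, 1, 0, 2, 1],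
  [2, 4, 3, 5, 4, 3, 2, 3, 2, 7, 5, 4, 3, 6, 4, 3, 2],
  [3, 2, 5, 4, 5, 4, 3, 2, 6, 4, 3, 2, 6, 4, 6, 7, 1, 0, 2, 3, 2, 1, 0, 4, 3, 2, 1, 6, 6],
  [0, 3, 6, 4, 3, 2, 3, 5, 4, 3, 2, 5, 4, 3, 2, 5, 4, 3, 1, 0, 2, 1, 3, 4, 5, 4],
  [2, 6, 4, 5, 1, 2],
  [0, 7, 6, 4, 3, 2, 5, 4, 3, 2, 7, 5, 4, 6, 1, 0, 2, 1, 3, 2, 1, 3, 0],
  [3, 2, 4, 5, 4, 3, 2, 3, 5, 4, 3, 2, 3, 4, 5, 4, 8, 1, 2, 3, 2, 4, 3, 2, 6, 4, 6, 4, 3],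
  [2, 8, 6, 4, 3, 2, 6, 4, 3, 2, 5, 4, 3, 5, 7, 1, 0, 2, 3, 2, 4, 3, 2, 5, 4, 6],
  [0, 4, 5, 4, 3, 2, 6, 4, 3, 2, 6, 4, 3, 2, 6, 6, 4, 3, 2, 6, 4, 1, 0, 2, 3, 2, 1, 4, 3, 2, 6, 4, 8],
  [2, 3, 4, 5, 4, 3, 2, 3, 4, 8, 6, 4, 3, 2, 3, 4, 6, 8, 1, 2, 3, 2, 4, 3, 2, 6, 4, 5, 8],
  [3, 2, 3, 4, 6, 4, 3, 2, 3, 4, 8, 5, 4, 3, 2, 3, 4, 5, 1, 2, 3, 2, 1, 4, 3, 2, 3, 5],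
  [2, 3, 2, 3, 6, 4, 3, 2, 6, 4, 3, 2, 6, 6, 4, 3, 6, 4, 1, 0, 2, 1, 3, 2, 4, 6, 6],
  [2, 5, 4, 3, 2, 3, 6, 6, 4, 3, 2, 3, 5, 4, 3, 2, 3, 6, 8, 1, 2, 3, 2, 1, 4, 3, 2, 1, 3, 0, 5, 8]]

def base : List ℕ := [0, 10036, 12126]

def sgTab : List (List ℕ) := [[0, 1, 2, 3, 4, 5, 7], [23, 25, 26, 29], [24, 27, 28, 30, 31, 32], [34, 36, 37, 41, 53], [33, 35, 43], [45, 46, 51], [42, 44], [48, 49, 50], [38, 39, 40, 47], [56, 58], [52, 54, 55, 57]]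

def numEdges : ℕ := 4216

end H91.Th.Data
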